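import Mathlib

/-!
Four-fold transitive groups in which an element fixing four points has odd order: involutions,
patterns on four points, commuting lifts.
-/

set_option autoImplicit false

namespace CfsgLib.CharsMore.FourTrans

open Equiv

variable {α : Type*}

/-- Four pairwise distinct points. -/
structure D4 (i j k l : α) : Prop where
  ij : i ≠ j
  ik : i ≠ k
  il : i ≠ l
  jk : j ≠ k
  jl : j ≠ l
  kl : k ≠ l

/-- The working hypothesis. -/
structure Hyp (G : Subgroup (Perm α)) : Prop where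
  map : ∀ i j k l i' j' k' l' : α, D4 i j k l → D4 i' j' k' l' →
    ∃ g ∈ G, g i = i' ∧ g j = j' ∧ g k = k' ∧ g l = l'
  odd : ∀ g ∈ G, ∀ i j k l : α, D4 i j k l → g i = i → g j = j → g k = k → g l = l → Odd (orderOf g)

/-- An involution of `G`. -/
structure Inv (G : Subgroup (Perm α)) (t : Perm α) : Prop where
  mem : t ∈ G
  sq : t * t = 1
  ne : t ≠ 1

variable {G : Subgroup (Perm α)}

theorem Inv.app {t : Perm α} (ht : Inv G t) (p : α) : t (t p) = p := by
  rw [← Perm.mul_apply, ht.sq, Perm.one_apply]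

theorem Inv.inv_eq {t : Perm α} (ht : Inv G t) : t⁻¹ = t :=
  (eq_inv_of_mul_eq_one_left ht.sq).symm

theorem Inv.orderOf_eq {t : Perm α} (ht : Inv G t) : orderOf t = 2 :=
  orderOf_eq_prime (by rw [pow_two, ht.sq]) ht.ne

theorem Inv.conj {t g : Perm α} (ht : Inv G t) (hg : g ∈ G) : Inv G (g * t * g⁻¹) :=
  ⟨mul_mem (mul_mem hg ht.mem) (inv_mem hg), by
    rw [show g * t * g⁻¹ * (g * t * g⁻¹) = g * (t * t) * g⁻¹ by group, ht.sq]; group,
   fun h => ht.ne (by
    have : t = g⁻¹ * (g * t * g⁻¹) * g := by group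
    rw [this, h]; group)⟩

theorem Inv.mk' {t : Perm α} (hG : t ∈ G) (h : t * t = 1) {p : α} (hp : t p ≠ p) : Inv G t :=
  ⟨hG, h, fun e => hp (by rw [e, Perm.one_apply])⟩

theorem commute_pow_of_invert {x e : Perm α} (hx : x * x = 1) (hxe : x * e * x = e⁻¹) (m : ℕ)
    (he : e ^ m * e ^ m = 1) : Commute x (e ^ m) := by
  have hxi : x⁻¹ = x := (eq_inv_of_mul_eq_one_left hx).symm
  have h1 : x * e ^ m * x = e ^ m := by
    calc x * e ^ m * x = (x * e * x⁻¹) ^ m := by rw [conj_pow, hxi]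
      _ = (e ^ m)⁻¹ := by rw [hxi, hxe, inv_pow]
      _ = e ^ m := (eq_inv_of_mul_eq_one_left he).symm
  calc x * e ^ m = x * e ^ m * (x * x) := by rw [hx, mul_one]
    _ = (x * e ^ m * x) * x := by simp only [mul_assoc]
    _ = e ^ m * x := by rw [h1]

theorem pow_apply_fix {g : Perm α} {p : α} (h : g p = p) (m : ℕ) : (g ^ m) p = p := by
  induction m with
  | zero => rfl
  | succ m ih => rw [pow_succ, Perm.mul_apply, h, ih]

/-- The odd power of an element acting as an involution on four points is an involution. -/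
theorem Hyp.exists_inv (hG : Hyp G) {e : Perm α} (he : e ∈ G) {i j k l : α} (hd : D4 i j k l)
    (hi : e (e i) = i) (hj : e (e j) = j) (hk : e (e k) = k) (hl : e (e l) = l)
    {p0 : α} (hp0 : e (e p0) = p0) (hp0' : e p0 ≠ p0) :
    ∃ m : ℕ, Inv G (e ^ m) ∧ ∀ p, e (e p) = p → (e ^ m) p = e p := by
  have hodd := hG.odd (e * e) (mul_mem he he) i j k l hd hi hj hk hl
  obtain ⟨s, hs⟩ := hodd
  have hagree : ∀ p, e (e p) = p → (e ^ orderOf (e * e)) p = e p := by
    intro p hp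
    rw [hs, pow_succ', pow_mul, Perm.mul_apply, pow_two, pow_apply_fix (g := e * e) hp]
  refine ⟨orderOf (e * e), Inv.mk' (pow_mem he _) ?_ (p := p0) ?_, hagree⟩
  · rw [← (Commute.refl e).mul_pow, pow_orderOf_eq_one]
  · rw [hagree p0 hp0]; exact hp0'

/-- An involution with a prescribed fixed pair and a prescribed transposed pair. -/
theorem Hyp.liftA (hG : Hyp G) {i j k l : α} (hd : D4 i j k l) :
    ∃ t, Inv G t ∧ t i = i ∧ t j = j ∧ t k = l := by
  obtain ⟨g, hg, h1, h2, h3, h4⟩ := hG.map i j k l i j l k hd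
    ⟨hd.ij, hd.il, hd.ik, hd.jl, hd.jk, hd.kl.symm⟩
  obtain ⟨m, hm, hag⟩ := hG.exists_inv hg hd (by rw [h1, h1]) (by rw [h2, h2]) (by rw [h3, h4])
    (by rw [h4, h3]) (p0 := k) (by rw [h3, h4]) (by rw [h3]; exact hd.kl.symm)
  exact ⟨g ^ m, hm, by rw [hag i (by rw [h1, h1]), h1], by rw [hag j (by rw [h2, h2]), h2],
    by rw [hag k (by rw [h3, h4]), h3]⟩

/-- An involution with two prescribed transposed pairs. -/
theorem Hyp.liftB (hG : Hyp G) {i j k l : α} (hd : D4 i j k l) :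
    ∃ t, Inv G t ∧ t i = j ∧ t k = l := by
  obtain ⟨g, hg, h1, h2, h3, h4⟩ := hG.map i j k l j i l k hd
    ⟨hd.ij.symm, hd.jl, hd.jk, hd.il, hd.ik, hd.kl.symm⟩
  obtain ⟨m, hm, hag⟩ := hG.exists_inv hg hd (by rw [h1, h2]) (by rw [h2, h1]) (by rw [h3, h4])
    (by rw [h4, h3]) (p0 := k) (by rw [h3, h4]) (by rw [h3]; exact hd.kl.symm)
  exact ⟨g ^ m, hm, by rw [hag i (by rw [h1, h2]), h1], by rw [hag k (by rw [h3, h4]), h3]⟩

/-- An involution commuting with `x` which agrees with `g` on a quadruple closed under both. -/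
theorem Hyp.commLift (hG : Hyp G) {x g : Perm α} (hx : Inv G x) (hg : Inv G g) {i j k l : α}
    (hd : D4 i j k l) (hi : g (x (g (x i))) = i) (hj : g (x (g (x j))) = j)
    (hk : g (x (g (x k))) = k) (hl : g (x (g (x l))) = l)
    {p0 : α} (hp0 : g (x (g (x p0))) = p0) (hp0' : g (x p0) ≠ p0)
    {p1 : α} (hp1 : g (x (g p1)) = x p1) (hp1' : g p1 ≠ p1) :
    ∃ y, Inv G y ∧ Commute y x ∧ ∀ p, g (x (g p)) = x p → y p = g p := by
  obtain ⟨m, hm, hag⟩ := hG.exists_inv (mul_mem hg.mem hx.mem) hd hi hj hk hl (p0 := p0) hp0 hp0'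
  have hxz : Commute x ((g * x) ^ m) := by
    refine commute_pow_of_invert hx.sq ?_ m hm.sq
    rw [mul_inv_rev, hx.inv_eq, hg.inv_eq]
    rw [show x * (g * x) * x = x * g * (x * x) by group, hx.sq, mul_one]
  have hag' : ∀ p, g (x (g p)) = x p → ((g * x) ^ m * x) p = g p := by
    intro p hp
    rw [Perm.mul_apply, hag (x p) (by simpa [Perm.mul_apply, hx.app] using hp), Perm.mul_apply,
      hx.app]
  refine ⟨(g * x) ^ m * x, Inv.mk' (mul_mem hm.mem hx.mem) ?_ (p := p1) ?_, ?_, hag'⟩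
  · rw [show (g * x) ^ m * x * ((g * x) ^ m * x) = (g * x) ^ m * (x * (g * x) ^ m) * x by group,
      hxz.eq, show (g * x) ^ m * ((g * x) ^ m * x) * x = ((g * x) ^ m * (g * x) ^ m) * (x * x) by
        simp only [mul_assoc], hm.sq, hx.sq, one_mul]
  · rw [hag' p1 hp1]; exact hp1'
  · exact (hxz.symm.mul_left (Commute.refl x))

/-- Two involutions agreeing on four points are conjugate by an element fixing these points. -/
theorem Hyp.conj_of_agree (hG : Hyp G) {x y : Perm α} (hx : Inv G x) (hy : Inv G y) {i j k l : α}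
    (hd : D4 i j k l) (hi : y i = x i) (hj : y j = x j) (hk : y k = x k) (hl : y l = x l) :
    ∃ c ∈ G, c * y * c⁻¹ = x ∧ (∀ z, Commute z x → Commute z y → Commute z c) ∧
      c i = i ∧ c j = j ∧ c k = k ∧ c l = l := by
  have h1 : ∀ p, y p = x p → (x * y) p = p := fun p hp => by rw [Perm.mul_apply, hp, hx.app]
  have hodd := hG.odd (x * y) (mul_mem hx.mem hy.mem) i j k l hd (h1 i hi) (h1 j hj) (h1 k hk)
    (h1 l hl)
  obtain ⟨s, hs⟩ := hodd
  refine ⟨(x * y) ^ (s + 1), pow_mem (mul_mem hx.mem hy.mem) _, ?_,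
    fun z hzx hzy => (hzx.mul_right hzy).pow_right _,
    pow_apply_fix (h1 i hi) _, pow_apply_fix (h1 j hj) _, pow_apply_fix (h1 k hk) _,
    pow_apply_fix (h1 l hl) _⟩
  have hyd : y * (x * y)⁻¹ * y⁻¹ = x * y := by
    rw [mul_inv_rev, hx.inv_eq, hy.inv_eq,
      show y * (y * x) * y = (y * y) * (x * y) by simp only [mul_assoc], hy.sq, one_mul]
  have hord : (x * y) ^ (2 * s + 1) = 1 := by rw [← hs]; exact pow_orderOf_eq_one _
  calc (x * y) ^ (s + 1) * y * ((x * y) ^ (s + 1))⁻¹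
      = (x * y) ^ (s + 1) * (y * ((x * y)⁻¹) ^ (s + 1) * y⁻¹) * y := by rw [inv_pow]; group
    _ = (x * y) ^ (s + 1) * (x * y) ^ (s + 1) * y := by rw [← conj_pow, hyd]
    _ = (x * y) ^ (2 * s + 1) * (x * y) * y := by
        rw [← pow_add, show s + 1 + (s + 1) = (2 * s + 1) + 1 by omega, pow_succ]
    _ = x := by rw [hord, one_mul, mul_assoc, hy.sq, mul_one]

variable [Fintype α] [DecidableEq α]

/-- The fixed points. -/
def fx (t : Perm α) : Finset α := Finset.univ.filter fun p => t p = p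

theorem mem_fx {t : Perm α} {p : α} : p ∈ fx t ↔ t p = p := by simp [fx]

theorem fx_conj (g t : Perm α) : fx (g * t * g⁻¹) = (fx t).image g := by
  ext p
  simp only [mem_fx, Finset.mem_image, Perm.mul_apply]
  constructor
  · intro h
    refine ⟨g⁻¹ p, g.injective ?_, by simp⟩
    rw [h]; simp
  · rintro ⟨q, hq, rfl⟩
    simp [hq]

theorem fx_conj_commute {c g : Perm α} (h : Commute c g) : (fx c).image g = fx c := by
  rw [← fx_conj, ← h.eq, mul_inv_cancel_right]

theorem commute_fx {c g : Perm α} (h : Commute c g) {p : α} (hp : p ∈ fx c) : g p ∈ fx c := by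
  rw [mem_fx] at hp ⊢
  rw [← Perm.mul_apply, h.eq, Perm.mul_apply, hp]

theorem exists_fresh (s : Finset α) (h : s.card < Fintype.card α) : ∃ p, p ∉ s := by
  by_contra hh
  have : (Finset.univ : Finset α) ⊆ s := fun p _ => not_not.1 fun hp => hh ⟨p, hp⟩
  have := Finset.card_le_card this
  rw [Finset.card_univ] at this
  omega

theorem Hyp.card_fx_le (hG : Hyp G) {t : Perm α} (ht : Inv G t) : (fx t).card ≤ 3 := by
  by_contra h
  obtain ⟨a, ha, b, hb, c, hc, hab, hac, hbc⟩ := Finset.two_lt_card.1 (show 2 < (fx t).card by omega)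
  have h3 : ({a, b, c} : Finset α).card ≤ 3 := Finset.card_le_three
  obtain ⟨d, hd, hdn⟩ : ∃ d ∈ fx t, d ∉ ({a, b, c} : Finset α) :=
    Finset.exists_mem_notMem_of_card_lt_card (by omega)
  simp only [Finset.mem_insert, Finset.mem_singleton, not_or] at hdn
  have := hG.odd t ht.mem a b c d ⟨hab, hac, fun e => hdn.1 e.symm, hbc, fun e => hdn.2.1 e.symm,
    fun e => hdn.2.2 e.symm⟩ (mem_fx.1 ha) (mem_fx.1 hb) (mem_fx.1 hc) (mem_fx.1 hd)
  rw [ht.orderOf_eq] at this
  exact absurd this (by decide)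

theorem Hyp.exists_cycle (hG : Hyp G) (h6 : 6 ≤ Fintype.card α) {t : Perm α} (ht : Inv G t) :
    ∀ i, ∃ k, t k ≠ k ∧ k ≠ i ∧ k ≠ t i := by
  intro i
  obtain ⟨k, hk⟩ := exists_fresh (fx t ∪ {i, t i}) (by
    have h1 := hG.card_fx_le ht
    have h2 := Finset.card_union_le (fx t) ({i, t i} : Finset α)
    have h3 : ({i, t i} : Finset α).card ≤ 2 := Finset.card_le_two
    omega)
  simp only [Finset.mem_union, mem_fx, Finset.mem_insert, Finset.mem_singleton, not_or] at hk
  exact ⟨k, hk.1, hk.2.1, hk.2.2⟩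

theorem Inv.exists_moved {t : Perm α} (ht : Inv G t) : ∃ i, t i ≠ i := by
  by_contra h
  exact ht.ne (Perm.ext fun p => not_not.1 fun hp => h ⟨p, hp⟩)

theorem Inv.d4 {t : Perm α} (ht : Inv G t) {i k : α} (hi : t i ≠ i) (hk : t k ≠ k) (h1 : k ≠ i)
    (h2 : k ≠ t i) : D4 i (t i) k (t k) :=
  ⟨hi.symm, h1.symm, fun e => h2 (by rw [e, ht.app]), h2.symm,
    fun e => h1 (t.injective e).symm, hk.symm⟩

/-- All involutions are conjugate. -/
theorem Hyp.inv_conj (hG : Hyp G) (h6 : 6 ≤ Fintype.card α) {x y : Perm α} (hx : Inv G x)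
    (hy : Inv G y) : ∃ g ∈ G, g * x * g⁻¹ = y := by
  obtain ⟨i, hi⟩ := hx.exists_moved
  obtain ⟨k, hk, hk1, hk2⟩ := hG.exists_cycle h6 hx i
  obtain ⟨i', hi'⟩ := hy.exists_moved
  obtain ⟨k', hk', hk1', hk2'⟩ := hG.exists_cycle h6 hy i'
  obtain ⟨g, hg, g1, g2, g3, g4⟩ := hG.map _ _ _ _ _ _ _ _ (hx.d4 hi hk hk1 hk2)
    (hy.d4 hi' hk' hk1' hk2')
  have hgi : ∀ p q, g p = q → g⁻¹ q = p := fun p q e => by rw [← e]; simp
  obtain ⟨c, hc, hcx, -⟩ := hG.conj_of_agree hy (hx.conj hg) (hy.d4 hi' hk' hk1' hk2')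
    (by simp [Perm.mul_apply, hgi _ _ g1, g2])
    (by simp [Perm.mul_apply, hgi _ _ g2, hx.app, g1, hy.app])
    (by simp [Perm.mul_apply, hgi _ _ g3, g4])
    (by simp [Perm.mul_apply, hgi _ _ g4, hx.app, g3, hy.app])
  exact ⟨c * g, mul_mem hc hg, by rw [← hcx]; group⟩

theorem Hyp.card_fx_eq (hG : Hyp G) (h6 : 6 ≤ Fintype.card α) {x y : Perm α} (hx : Inv G x)
    (hy : Inv G y) : (fx x).card = (fx y).card := by
  obtain ⟨g, -, rfl⟩ := hG.inv_conj h6 hx hy
  rw [fx_conj, Finset.card_image_of_injective _ g.injective]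

theorem exists_four (h : 4 ≤ Fintype.card α) : ∃ i j k l : α, D4 i j k l := by
  obtain ⟨e⟩ : Nonempty (Fin 4 ↪ α) := Function.Embedding.nonempty_of_card_le (by simpa using h)
  have hne : ∀ a b : Fin 4, a ≠ b → e a ≠ e b := fun a b hab he => hab (e.injective he)
  exact ⟨e 0, e 1, e 2, e 3, hne _ _ (by decide), hne _ _ (by decide), hne _ _ (by decide),
    hne _ _ (by decide), hne _ _ (by decide), hne _ _ (by decide)⟩

theorem Hyp.card_fx_bounds (hG : Hyp G) (h6 : 6 ≤ Fintype.card α) {t : Perm α} (ht : Inv G t) :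
    2 ≤ (fx t).card ∧ (fx t).card ≤ 3 ∧ (fx t).card % 2 = Fintype.card α % 2 := by
  refine ⟨?_, hG.card_fx_le ht, ?_⟩
  · obtain ⟨i, j, k, l, hd⟩ := exists_four (α := α) (by omega)
    obtain ⟨a, ha, hai, haj, -⟩ := hG.liftA hd
    rw [hG.card_fx_eq h6 ht ha]
    have : ({i, j} : Finset α) ⊆ fx a := by
      intro p hp
      simp only [Finset.mem_insert, Finset.mem_singleton] at hp
      rcases hp with rfl | rfl <;> rwa [mem_fx]
    have h2 := Finset.card_le_card this
    rwa [Finset.card_pair hd.ij] at h2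
  · have hs : t.support = (fx t)ᶜ := by ext p; simp [mem_fx]
    have h2 := Perm.two_dvd_card_support (σ := t) (by rw [pow_two, ht.sq])
    rw [hs, Finset.card_compl] at h2
    have := Finset.card_le_univ (fx t)
    omega

/-- The fixed point sets of all involutions have the same size, so inclusion gives equality. -/
theorem Hyp.fx_eq_of_subset (hG : Hyp G) (h6 : 6 ≤ Fintype.card α) {x y : Perm α} (hx : Inv G x)
    (hy : Inv G y) (h : fx x ⊆ fx y) : fx y = fx x :=
  (Finset.eq_of_subset_of_card_le h (hG.card_fx_eq h6 hy hx).le).symm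

end CfsgLib.CharsMore.FourTrans
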