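import Cfsg.Agent.Lib.CharsMore.FourTrans.TypeOne

/-!
The degree without two commuting involutions with equal fixed points is eleven.
-/

set_option autoImplicit false

namespace CfsgLib.CharsMore.FourTrans

open Equiv

variable {α : Type*} [Fintype α] [DecidableEq α] {G : Subgroup (Perm α)}

/-- Quadruples. -/
abbrev Quad (α : Type*) := {q : α × α × α × α // D4 q.1 q.2.1 q.2.2.1 q.2.2.2}

theorem card_embedding_subtype (m : ℕ) (s : Finset α) :
    Nat.card (Fin m ↪ {p // p ∈ s}) = s.card.descFactorial m := by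
  rw [Nat.card_eq_fintype_card, Fintype.card_embedding_eq, Fintype.card_fin, Fintype.card_coe]

theorem card_quad : Nat.card (Quad α) = (Fintype.card α).descFactorial 4 := by
  have e : Quad α ≃ (Fin 4 ↪ α) :=
    { toFun := fun q => ⟨![q.1.1, q.1.2.1, q.1.2.2.1, q.1.2.2.2], by
        obtain ⟨⟨i, j, k, l⟩, h⟩ := q
        have := h.ij; have := h.ik; have := h.il; have := h.jk; have := h.jl; have := h.kl
        intro a b hab
        fin_cases a <;> fin_cases b <;> simp_all⟩
      invFun := fun f => ⟨(f 0, f 1, f 2, f 3),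
        ⟨f.injective.ne (by decide), f.injective.ne (by decide), f.injective.ne (by decide),
          f.injective.ne (by decide), f.injective.ne (by decide), f.injective.ne (by decide)⟩⟩
      left_inv := fun q => by
        obtain ⟨⟨i, j, k, l⟩, h⟩ := q
        rfl
      right_inv := fun f => by
        ext a
        fin_cases a <;> rfl }
  rw [Nat.card_congr e, Nat.card_eq_fintype_card, Fintype.card_embedding_eq, Fintype.card_fin]

theorem Hyp.one_degree (hG : Hyp G) (h6 : 6 ≤ Fintype.card α) (hT : ¬ Two G) :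
    Fintype.card α = 11 := by
  classical
  set n := Fintype.card α with hn
  have hodd : n % 2 = 1 := by
    by_contra h
    exact hG.one_not_even h6 hT (Nat.even_iff.2 (by omega))
  have hc3 : ∀ t, Inv G t → (fx t).card = 3 := fun t ht => by
    obtain ⟨h1, h2, h3⟩ := hG.card_fx_bounds h6 ht
    rw [← hn] at h3
    omega
  -- the involution of three points
  have hthree : ∀ i j k : α, i ≠ j → i ≠ k → j ≠ k →
      ∃ t, Inv G t ∧ t i = i ∧ t j = j ∧ t k = k := by
    intro i j k hij hik hjk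
    obtain ⟨i', j', k', l', hd⟩ := exists_four (α := α) (by omega)
    obtain ⟨a, ha, a1, a2, -⟩ := hG.liftA hd
    obtain ⟨w, hw, hwn⟩ : ∃ w ∈ fx a, w ∉ ({i', j'} : Finset α) :=
      Finset.exists_mem_notMem_of_card_lt_card (by rw [Finset.card_pair hd.ij, hc3 a ha]; omega)
    simp only [Finset.mem_insert, Finset.mem_singleton, not_or] at hwn
    obtain ⟨l, hl⟩ := exists_fresh ({i, j, k} : Finset α) (by
      have := Finset.card_le_three (a := i) (b := j) (c := k); omega)
    obtain ⟨l'', hl''⟩ := exists_fresh ({i', j', w} : Finset α) (by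
      have := Finset.card_le_three (a := i') (b := j') (c := w); omega)
    simp only [Finset.mem_insert, Finset.mem_singleton, not_or] at hl hl''
    obtain ⟨g, hg, g1, g2, g3, -⟩ := hG.map i' j' w l'' i j k l
      ⟨hd.ij, Ne.symm hwn.1, Ne.symm hl''.1, Ne.symm hwn.2, Ne.symm hl''.2.1, Ne.symm hl''.2.2⟩
      ⟨hij, hik, Ne.symm hl.1, hjk, Ne.symm hl.2.1, Ne.symm hl.2.2⟩
    have hfix : ∀ p, a p = p → (g * a * g⁻¹) (g p) = g p := fun p hp => by
      rw [Perm.mul_apply, Perm.mul_apply, Perm.inv_eq_iff_eq.2 rfl, hp]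
    refine ⟨g * a * g⁻¹, ha.conj hg, ?_, ?_, ?_⟩
    · rw [← g1]; exact hfix _ a1
    · rw [← g2]; exact hfix _ a2
    · rw [← g3]; exact hfix _ (mem_fx.1 hw)
  choose τ hτ hτ1 hτ2 hτ3 using hthree
  have hτu : ∀ i j k (h1 : i ≠ j) (h2 : i ≠ k) (h3 : j ≠ k) t, Inv G t → t i = i → t j = j →
      t k = k → t = τ i j k h1 h2 h3 := fun i j k h1 h2 h3 t ht e1 e2 e3 =>
    hG.one_unique h6 hT ht (hτ _ _ _ h1 h2 h3) h1 h2 h3 e1 e2 e3 (hτ1 ..) (hτ2 ..) (hτ3 ..)
  -- uniqueness of the involution with one fixed and one moved pair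
  have hA : ∀ a a', Inv G a → Inv G a' → ∀ i j k l, D4 i j k l → a i = i → a j = j → a k = l →
      a' i = i → a' j = j → a' k = l → a = a' := by
    have hmov : ∀ q : Quad α, D4 q.1.1 q.1.2.1 q.1.2.2.2
        (τ _ _ _ q.2.ij q.2.ik q.2.jk q.1.2.2.2) := by
      intro q
      obtain ⟨⟨i, j, w, k⟩, hd⟩ := q
      set t := τ i j w hd.ij hd.ik hd.jk
      have ht : Inv G t := hτ ..
      have hk : t k ≠ k := fun e => by
        have h4 : ({i, j, w, k} : Finset α) ⊆ fx t := by
          intro p hp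
          simp only [Finset.mem_insert, Finset.mem_singleton] at hp
          rcases hp with rfl | rfl | rfl | rfl
          · exact mem_fx.2 (hτ1 ..)
          · exact mem_fx.2 (hτ2 ..)
          · exact mem_fx.2 (hτ3 ..)
          · exact mem_fx.2 e
        have hc4 : ({i, j, w, k} : Finset α).card = 4 := by
          rw [Finset.card_insert_of_notMem (by simp [hd.ij, hd.ik, hd.il]),
            Finset.card_insert_of_notMem (by simp [hd.jk, hd.jl]), Finset.card_pair hd.kl]
        have := Finset.card_le_card h4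
        rw [hc3 t ht] at this
        omega
      exact ⟨hd.ij, hd.il, fun e => hd.il ((hτ1 i j w hd.ij hd.ik hd.jk).symm.trans
          ((congrArg t e).trans (ht.app k))), hd.jl,
        fun e => hd.jl ((hτ2 i j w hd.ij hd.ik hd.jk).symm.trans ((congrArg t e).trans (ht.app k))),
        hk.symm⟩
    let Ψ : Quad α → Quad α := fun q =>
      ⟨(q.1.1, q.1.2.1, q.1.2.2.2, τ _ _ _ q.2.ij q.2.ik q.2.jk q.1.2.2.2), hmov q⟩
    have hsurj : Function.Surjective Ψ := by
      rintro ⟨⟨i, j, k, l⟩, hd⟩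
      obtain ⟨a, ha, a1, a2, a3⟩ := hG.liftA hd
      obtain ⟨w, hw, hwn⟩ : ∃ w ∈ fx a, w ∉ ({i, j} : Finset α) :=
        Finset.exists_mem_notMem_of_card_lt_card (by rw [Finset.card_pair hd.ij, hc3 a ha]; omega)
      simp only [Finset.mem_insert, Finset.mem_singleton, not_or] at hwn
      have hwk : w ≠ k := fun e => hd.kl (by rw [← a3, ← e]; exact (mem_fx.1 hw).symm)
      refine ⟨⟨(i, j, w, k), ⟨hd.ij, Ne.symm hwn.1, hd.ik, Ne.symm hwn.2, hd.jk, hwk⟩⟩, ?_⟩
      refine Subtype.ext ?_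
      simp only [Ψ]
      rw [← hτu i j w _ _ _ a ha a1 a2 (mem_fx.1 hw), a3]
    have hinj : Function.Injective Ψ := Finite.injective_iff_surjective.2 hsurj
    intro a a' ha ha' i j k l hd a1 a2 a3 b1 b2 b3
    have get : ∀ a, Inv G a → a i = i → a j = j → a k = l →
        ∃ w, ∃ h : D4 i j w k, a = τ i j w h.ij h.ik h.jk ∧ a w = w := by
      intro a ha a1 a2 a3
      obtain ⟨w, hw, hwn⟩ : ∃ w ∈ fx a, w ∉ ({i, j} : Finset α) :=
        Finset.exists_mem_notMem_of_card_lt_card (by rw [Finset.card_pair hd.ij, hc3 a ha]; omega)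
      simp only [Finset.mem_insert, Finset.mem_singleton, not_or] at hwn
      have hwk : w ≠ k := fun e => hd.kl (by rw [← a3, ← e]; exact (mem_fx.1 hw).symm)
      exact ⟨w, ⟨hd.ij, Ne.symm hwn.1, hd.ik, Ne.symm hwn.2, hd.jk, hwk⟩,
        hτu _ _ _ _ _ _ a ha a1 a2 (mem_fx.1 hw), mem_fx.1 hw⟩
    obtain ⟨w, h, e, hw⟩ := get a ha a1 a2 a3
    obtain ⟨w', h', e', hw'⟩ := get a' ha' b1 b2 b3
    have := @hinj ⟨(i, j, w, k), h⟩ ⟨(i, j, w', k), h'⟩ (Subtype.ext (by
      simp only [Ψ]
      rw [← e, ← e', a3, b3]))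
    have hww : w = w' := congrArg (fun q : Quad α => q.1.2.2.1) this
    subst hww
    exact hG.one_unique h6 hT ha ha' h.ij h.ik h.jk a1 a2 hw b1 b2 hw'
  -- uniqueness of the involution with two moved pairs
  have hB : ∀ x x', Inv G x → Inv G x' → ∀ i j k l, D4 i j k l → x i = j → x k = l →
      x' i = j → x' k = l → x = x' := by
    intro x x' hx hx' i j k l hd x1 x2 x1' x2'
    have key : ∀ x, Inv G x → x i = j → x k = l → ∃ a b, Inv G a ∧ Inv G b ∧ x = b * a ∧
        a i = i ∧ a j = j ∧ a k = l ∧ b k = k ∧ b l = l ∧ b i = j := by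
      intro x hx x1 x2
      have x1' : x j = i := by rw [← x1, hx.app]
      have x2' : x l = k := by rw [← x2, hx.app]
      obtain ⟨g, hg, g1, g2, g3⟩ := hG.liftA hd
      have g3' : g l = k := by rw [← g3, hg.app]
      obtain ⟨a, ha, hac, hag⟩ := hG.commLift hx hg hd
        (by simp [x1, x1', g1, g2]) (by simp [x1, x1', g1, g2])
        (by simp [x2, x2', g3, g3']) (by simp [x2, x2', g3, g3'])
        (p0 := i) (by simp [x1, x1', g1, g2]) (by rw [x1, g2]; exact hd.ij.symm)
        (p1 := k) (by simp [x2, x2', g3, g3']) (by rw [g3]; exact hd.kl.symm)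
      have a1 : a i = i := by rw [hag i (by simp [x1, g1, g2]), g1]
      have a2 : a j = j := by rw [hag j (by simp [x1', g1, g2]), g2]
      have a3 : a k = l := by rw [hag k (by simp [x2, x2', g3, g3']), g3]
      have a3' : a l = k := by rw [← a3, ha.app]
      have hb : Inv G (x * a) := by
        refine Inv.mk' (mul_mem hx.mem ha.mem) ?_ (p := i) (by rw [Perm.mul_apply, a1, x1]; exact hd.ij.symm)
        rw [show x * a * (x * a) = x * (a * x) * a by group, hac.eq,
          show x * (x * a) * a = (x * x) * (a * a) by group, hx.sq, ha.sq, one_mul]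
      exact ⟨a, x * a, ha, hb, by rw [mul_assoc, ha.sq, mul_one], a1, a2, a3,
        by rw [Perm.mul_apply, a3, x2'], by rw [Perm.mul_apply, a3', x2],
        by rw [Perm.mul_apply, a1, x1]⟩
    obtain ⟨a, b, ha, hb, e, a1, a2, a3, b1, b2, b3⟩ := key x hx x1 x2
    obtain ⟨a', b', ha', hb', e', a1', a2', a3', b1', b2', b3'⟩ := key x' hx' x1' x2'
    rw [e, e', hA a a' ha ha' i j k l hd a1 a2 a3 a1' a2' a3',
      hA b b' hb hb' k l i j ⟨hd.kl, hd.ik.symm, hd.jk.symm, hd.il.symm, hd.jl.symm, hd.ij⟩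
        b1 b2 b3 b1' b2' b3']
  -- counting
  let I := {t : Perm α // Inv G t}
  have h3 : Nat.card I * 6 = n.descFactorial 3 := by
    have e : (Σ t : I, Fin 3 ↪ {p // p ∈ fx t.1}) ≃ (Fin 3 ↪ α) := by
      refine Equiv.ofBijective (fun z => z.2.trans (Function.Embedding.subtype _)) ⟨?_, ?_⟩
      · rintro ⟨t, f⟩ ⟨t', f'⟩ hff
        have hp : ∀ a, (f a : α) = f' a := fun a => DFunLike.congr_fun hff a
        have hne : ∀ a b : Fin 3, a ≠ b → (f a : α) ≠ f b := fun a b hab h =>
          hab (f.injective (Subtype.ext h))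
        obtain rfl : t = t' := Subtype.ext (hG.one_unique h6 hT t.2 t'.2
          (hne 0 1 (by decide)) (hne 0 2 (by decide)) (hne 1 2 (by decide))
          (mem_fx.1 (f 0).2) (mem_fx.1 (f 1).2) (mem_fx.1 (f 2).2)
          (hp 0 ▸ mem_fx.1 (f' 0).2) (hp 1 ▸ mem_fx.1 (f' 1).2) (hp 2 ▸ mem_fx.1 (f' 2).2))
        rw [show f = f' from Function.Embedding.ext fun a => Subtype.ext (hp a)]
      · intro f
        have h1 : f 0 ≠ f 1 := f.injective.ne (by decide)
        have h2 : f 0 ≠ f 2 := f.injective.ne (by decide)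
        have h4 : f 1 ≠ f 2 := f.injective.ne (by decide)
        refine ⟨⟨⟨τ _ _ _ h1 h2 h4, hτ ..⟩, ⟨fun a => ⟨f a, mem_fx.2 ?_⟩, fun a b hab =>
          f.injective (congrArg Subtype.val hab)⟩⟩, Function.Embedding.ext fun a => rfl⟩
        fin_cases a
        · exact hτ1 ..
        · exact hτ2 ..
        · exact hτ3 ..
    have := Nat.card_congr e
    rw [Nat.card_sigma, Nat.card_eq_fintype_card (α := Fin 3 ↪ α), Fintype.card_embedding_eq,
      Fintype.card_fin, ← hn] at this
    rw [← this, Finset.sum_congr rfl (g := fun _ => 6) (fun t _ => by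
      rw [card_embedding_subtype, hc3 t.1 t.2]; rfl), Finset.sum_const, smul_eq_mul,
      Finset.card_univ, Nat.card_eq_fintype_card]
  have h4 : Nat.card I * ((n - 3) * (n - 5)) = n.descFactorial 4 := by
    have e : (Σ t : I, Σ i : {p // t.1 p ≠ p}, {k // t.1 k ≠ k ∧ k ≠ i.1 ∧ k ≠ t.1 i.1}) ≃ Quad α := by
      refine Equiv.ofBijective (fun z => ⟨(z.2.1.1, z.1.1 z.2.1.1, z.2.2.1, z.1.1 z.2.2.1),
        z.1.2.d4 z.2.1.2 z.2.2.2.1 z.2.2.2.2.1 z.2.2.2.2.2⟩) ⟨?_, ?_⟩
      · rintro ⟨t, ⟨i, hi⟩, ⟨k, hk⟩⟩ ⟨t', ⟨i', hi'⟩, ⟨k', hk'⟩⟩ h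
        simp only [Subtype.mk.injEq, Prod.mk.injEq] at h
        obtain ⟨rfl, e1, rfl, e2⟩ := h
        obtain rfl : t = t' := Subtype.ext (hB t.1 t'.1 t.2 t'.2 _ _ _ _
          (t.2.d4 hi hk.1 hk.2.1 hk.2.2) rfl rfl e1.symm e2.symm)
        rfl
      · rintro ⟨⟨i, j, k, l⟩, hd⟩
        obtain ⟨t, ht, t1, t2⟩ := hG.liftB hd
        refine ⟨⟨⟨t, ht⟩, ⟨i, by rw [t1]; exact hd.ij.symm⟩, ⟨k, by rw [t2]; exact hd.kl.symm,
          hd.ik.symm, by rw [t1]; exact hd.jk.symm⟩⟩, ?_⟩
        exact Subtype.ext (by simp [t1, t2])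
    have := Nat.card_congr e
    rw [Nat.card_sigma, card_quad] at this
    rw [← this, Finset.sum_congr rfl (g := fun _ => (n - 3) * (n - 5)) (fun t _ => ?_),
      Finset.sum_const, smul_eq_mul, Finset.card_univ, Nat.card_eq_fintype_card]
    have hmoved : Fintype.card {p // t.1 p ≠ p} = n - 3 := by
      rw [Fintype.card_subtype_compl, Fintype.card_subtype]
      change n - (fx t.1).card = n - 3
      rw [hc3 t.1 t.2]
    rw [Nat.card_sigma, Finset.sum_congr rfl (g := fun _ => n - 5) (fun i _ => ?_),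
      Finset.sum_const, smul_eq_mul, Finset.card_univ, hmoved]
    rw [Nat.card_eq_fintype_card, Fintype.card_subtype]
    have he : (Finset.univ.filter fun k => t.1 k ≠ k ∧ k ≠ i.1 ∧ k ≠ t.1 i.1) =
        (fx t.1 ∪ {i.1, t.1 i.1})ᶜ := by ext k; simp [mem_fx]; tauto
    rw [he, Finset.card_compl, Finset.card_union_of_disjoint, hc3 t.1 t.2, Finset.card_pair (Ne.symm i.2)]
    rw [Finset.disjoint_left]
    intro p hp hp'
    simp only [Finset.mem_insert, Finset.mem_singleton] at hp'
    rcases hp' with rfl | rfl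
    · exact i.2 (mem_fx.1 hp)
    · exact i.2 (by have := mem_fx.1 hp; rw [t.2.app] at this; exact this.symm)
  rw [Nat.descFactorial_succ, ← h3] at h4
  have hI : 0 < Nat.card I := by
    have : 0 < n.descFactorial 3 := Nat.descFactorial_pos.2 (by omega)
    rw [← h3] at this
    exact Nat.pos_of_mul_pos_right this
  have h5 : (n - 3) * (n - 5) = (n - 3) * 6 := by
    refine Nat.eq_of_mul_eq_mul_left hI ?_
    rw [h4]; ring
  have := Nat.eq_of_mul_eq_mul_left (by omega) h5
  omega

end CfsgLib.CharsMore.FourTrans
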