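import Cfsg.Agent.Lib.CharsMore.FourTrans.Count
import Cfsg.Agent.Lib.Perm.JordanCycle
import Cfsg.Agent.Lib.Perm.PrimeSylow

/-!
M. Hall's theorem: four-fold transitive groups with four point stabiliser of odd order.
-/

set_option autoImplicit false

namespace CfsgLib.CharsMore.FourTrans

open Equiv MulAction

variable {α : Type*} [Fintype α] [DecidableEq α] {G : Subgroup (Perm α)}

theorem hyp_of (hG : IsMultiplyPretransitive G α 4) (x : Fin 4 ↪ α)
    (hodd : Odd (Nat.card (stabilizer G x))) : Hyp G := by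
  have emb : ∀ i j k l : α, D4 i j k l → ∃ e : Fin 4 ↪ α, e 0 = i ∧ e 1 = j ∧ e 2 = k ∧ e 3 = l := by
    intro i j k l h
    have := h.ij; have := h.ik; have := h.il; have := h.jk; have := h.jl; have := h.kl
    exact ⟨⟨![i, j, k, l], fun a b hab => by fin_cases a <;> fin_cases b <;> simp_all⟩,
      rfl, rfl, rfl, rfl⟩
  refine ⟨fun i j k l i' j' k' l' h h' => ?_, fun g hg i j k l h h1 h2 h3 h4 => ?_⟩
  · obtain ⟨e, rfl, rfl, rfl, rfl⟩ := emb i j k l h
    obtain ⟨e', rfl, rfl, rfl, rfl⟩ := emb i' j' k' l' h'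
    obtain ⟨g, hg⟩ := hG.exists_smul_eq e e'
    have : ∀ a, (g : Perm α) (e a) = e' a := fun a => DFunLike.congr_fun hg a
    exact ⟨g, g.2, this 0, this 1, this 2, this 3⟩
  · obtain ⟨e, rfl, rfl, rfl, rfl⟩ := emb i j k l h
    obtain ⟨g₀, hg₀⟩ := hG.exists_smul_eq x e
    have hx : ∀ a, (g₀ : Perm α) (x a) = e a := fun a => DFunLike.congr_fun hg₀ a
    have hmem : g₀⁻¹ * ⟨g, hg⟩ * g₀ ∈ stabilizer G x := by
      rw [mem_stabilizer_iff]
      refine Function.Embedding.ext fun a => ?_
      change (g₀ : Perm α)⁻¹ (g ((g₀ : Perm α) (x a))) = x a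
      rw [hx, show g (e a) = e a by fin_cases a <;> assumption, ← hx]
      simp
    have hd := Subgroup.orderOf_dvd_natCard _ hmem
    rw [show g₀⁻¹ * ⟨g, hg⟩ * g₀ = MulAut.conj g₀⁻¹ ⟨g, hg⟩ by simp, MulEquiv.orderOf_eq,
      Subgroup.orderOf_mk] at hd
    exact hodd.of_dvd_nat hd

theorem card_eq_mul (hG : IsMultiplyPretransitive G α 4) (x : Fin 4 ↪ α) :
    Nat.card G = (Fintype.card α).descFactorial 4 * Nat.card (stabilizer G x) := by
  have hidx : (stabilizer G x).index = Nat.card (Fin 4 ↪ α) := by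
    rw [MulAction.index_stabilizer]
    refine (congrArg Set.ncard (Set.eq_univ_of_forall fun y => ?_)).trans (Set.ncard_univ _)
    exact hG.exists_smul_eq x y
  rw [← (stabilizer G x).card_mul_index, hidx, Nat.card_eq_fintype_card (α := Fin 4 ↪ α),
    Fintype.card_embedding_eq, Fintype.card_fin, mul_comm]

theorem Hyp.card_ne_nine (hG : Hyp G) : Fintype.card α ≠ 9 := by
  intro hn
  have h6 : 6 ≤ Fintype.card α := by omega
  have hc3 : ∀ t, Inv G t → (fx t).card = 3 := fun t ht => by
    obtain ⟨h1, h2, h3⟩ := hG.card_fx_bounds h6 ht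
    omega
  obtain ⟨i, j, k, l, hd⟩ := exists_four (α := α) (by omega)
  obtain ⟨a, ha, a1, a2, a3⟩ := hG.liftA hd
  obtain ⟨g, hg, g1, g2, g3⟩ := hG.liftA (i := k) (j := l) (k := i) (l := j)
    ⟨hd.kl, hd.ik.symm, hd.jk.symm, hd.il.symm, hd.jl.symm, hd.ij⟩
  have a3' : a l = k := by rw [← a3, ha.app]
  have g3' : g j = i := by rw [← g3, hg.app]
  obtain ⟨b, hb, hba, hag⟩ := hG.commLift ha hg hd
    (by simp [a1, a2, g3, g3']) (by simp [a1, a2, g3, g3'])
    (by simp [a3, a3', g1, g2]) (by simp [a3, a3', g1, g2])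
    (p0 := i) (by simp [a1, a2, g3, g3']) (by rw [a1, g3]; exact hd.ij.symm)
    (p1 := i) (by simp [a1, a2, g3, g3']) (by rw [g3]; exact hd.ij.symm)
  have b1 : b k = k := by rw [hag k (by simp [a3, a3', g1, g2]), g1]
  have b2 : b l = l := by rw [hag l (by simp [a3, a3', g1, g2]), g2]
  have b3 : b i = j := by rw [hag i (by simp [a1, a2, g3, g3']), g3]
  have hx : Inv G (a * b) := by
    refine Inv.mk' (mul_mem ha.mem hb.mem) ?_ (p := i) (by simp [b3, a2, hd.ij.symm])
    rw [show a * b * (a * b) = a * (b * a) * b by group, hba.eq,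
      show a * (a * b) * b = (a * a) * (b * b) by group, ha.sq, hb.sq, one_mul]
  have hax : Commute a (a * b) := (Commute.refl a).mul_right hba.symm
  have hbx : Commute b (a * b) := hba.mul_right (Commute.refl b)
  -- the third fixed point of `a`
  have third : ∀ (a b : Perm α) (i j k l : α), Inv G a → Inv G b → Commute b a → i ≠ j → b i = j → b j = i →
      a i = i → a j = j → ∃ w, w ≠ i ∧ w ≠ j ∧ fx a = {i, j, w} ∧ b w = w := by
    intro a b i j k l ha hb hc hij bi bj ai aj
    obtain ⟨w, hw, hwn⟩ : ∃ w ∈ fx a, w ∉ ({i, j} : Finset α) :=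
      Finset.exists_mem_notMem_of_card_lt_card (by rw [Finset.card_pair hij, hc3 a ha]; omega)
    simp only [Finset.mem_insert, Finset.mem_singleton, not_or] at hwn
    have hfa : fx a = {i, j, w} := by
      refine (Finset.eq_of_subset_of_card_le ?_ ?_).symm
      · intro p hp
        simp only [Finset.mem_insert, Finset.mem_singleton] at hp
        rcases hp with rfl | rfl | rfl
        · exact mem_fx.2 ai
        · exact mem_fx.2 aj
        · exact hw
      · rw [hc3 a ha, Finset.card_insert_of_notMem (by simp [hij, Ne.symm hwn.1]),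
          Finset.card_pair (Ne.symm hwn.2)]
    refine ⟨w, hwn.1, hwn.2, hfa, ?_⟩
    have hm := commute_fx hc.symm hw
    rw [hfa] at hm
    simp only [Finset.mem_insert, Finset.mem_singleton] at hm
    rcases hm with e | e | e
    · exact absurd (b.injective (e.trans bj.symm)) hwn.2
    · exact absurd (b.injective (e.trans bi.symm)) hwn.1
    · exact e
  obtain ⟨w, hw1, hw2, hfa, hbw⟩ := third a b i j k l ha hb hba hd.ij b3 (by rw [← b3, hb.app]) a1 a2
  obtain ⟨w', hw1', hw2', hfb, haw'⟩ := third b a k l i j hb ha hba.symm hd.kl a3 a3' b1 b2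
  -- the two remaining points
  set Q := ({i, j, k, l} : Finset α) ∪ fx (a * b) with hQ
  have hdis : Disjoint ({i, j, k, l} : Finset α) (fx (a * b)) := by
    rw [Finset.disjoint_left]
    intro p hp hp'
    simp only [Finset.mem_insert, Finset.mem_singleton] at hp
    rw [mem_fx, Perm.mul_apply] at hp'
    have bj : b j = i := by rw [← b3, hb.app]
    rcases hp with rfl | rfl | rfl | rfl
    · rw [b3, a2] at hp'; exact hd.ij hp'.symm
    · rw [bj, a1] at hp'; exact hd.ij hp'
    · rw [b1, a3] at hp'; exact hd.kl hp'.symm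
    · rw [b2, a3'] at hp'; exact hd.kl hp'
  have hQc : Q.card = 7 := by
    rw [hQ, Finset.card_union_of_disjoint hdis, hc3 _ hx,
      Finset.card_insert_of_notMem (by simp [hd.ij, hd.ik, hd.il]),
      Finset.card_insert_of_notMem (by simp [hd.jk, hd.jl]), Finset.card_pair hd.kl]
  have hR : Qᶜ.card = 2 := by rw [Finset.card_compl, hQc, hn]
  obtain ⟨p, q, hpq, hRe⟩ := Finset.card_eq_two.1 hR
  have hswap : ∀ (c : Perm α) (u v s : α), Inv G c → Commute c (a * b) → u ∈ ({i, j, k, l} : Finset α) →
      v ∈ ({i, j, k, l} : Finset α) → c i ∈ ({i, j, k, l} : Finset α) →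
      c j ∈ ({i, j, k, l} : Finset α) → c k ∈ ({i, j, k, l} : Finset α) →
      c l ∈ ({i, j, k, l} : Finset α) → fx c = {u, v, s} → (a * b) s = s → c p = q := by
    intro c u v s hc hcx hu hv ci cj ck cl hfc hs
    have hinvar : ∀ r, r ∈ Q → c r ∈ Q := by
      intro r hr
      simp only [hQ, Finset.mem_union] at hr ⊢
      rcases hr with hr | hr
      · left
        simp only [Finset.mem_insert, Finset.mem_singleton] at hr
        rcases hr with rfl | rfl | rfl | rfl <;> assumption
      · exact Or.inr (commute_fx hcx.symm hr)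
    have hp : p ∈ Qᶜ := by rw [hRe]; simp
    rw [Finset.mem_compl] at hp
    have hcp : c p ∈ Qᶜ := Finset.mem_compl.2 fun h => hp (by simpa [hc.app] using hinvar _ h)
    rw [hRe] at hcp
    simp only [Finset.mem_insert, Finset.mem_singleton] at hcp
    refine hcp.resolve_left fun e => hp ?_
    have : p ∈ fx c := mem_fx.2 e
    rw [hfc] at this
    simp only [Finset.mem_insert, Finset.mem_singleton] at this
    rcases this with rfl | rfl | rfl
    · exact Finset.mem_union_left _ hu
    · exact Finset.mem_union_left _ hv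
    · exact Finset.mem_union_right _ (mem_fx.2 hs)
  have bj : b j = i := by rw [← b3, hb.app]
  have haw : a w = w := mem_fx.1 (by rw [hfa]; simp)
  have hbw' : b w' = w' := mem_fx.1 (by rw [hfb]; simp)
  have e1 := hswap a i j w ha hax (by simp) (by simp) (by simp [a1]) (by simp [a2]) (by simp [a3])
    (by simp [a3']) hfa (by rw [Perm.mul_apply, hbw, haw])
  have e2 := hswap b k l w' hb hbx (by simp) (by simp) (by simp [b3]) (by simp [bj]) (by simp [b1])
    (by simp [b2]) hfb (by rw [Perm.mul_apply, hbw', haw'])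
  have hp : p ∈ fx (a * b) := by
    rw [mem_fx, Perm.mul_apply, e2, ← e1, ha.app]
  have : p ∈ Qᶜ := by rw [hRe]; simp
  exact Finset.mem_compl.1 this (Finset.mem_union_right _ hp)

theorem no_seven_order (hG : IsMultiplyPretransitive G α 4) (hn : Fintype.card α = 7)
    (hc : Nat.card G = 840) : False := by
  have : Fact (Nat.Prime 7) := ⟨by norm_num⟩
  have h2' : IsMultiplyPretransitive G α 2 :=
    isMultiplyPretransitive_of_le (n := 4) (by norm_num) (by rw [Nat.card_eq_fintype_card]; omega)
  have : IsPretransitive G α := isPretransitive_of_is_two_pretransitive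
  obtain ⟨P⟩ := (inferInstance : Nonempty (Sylow 7 G))
  have hP : Nat.card (P : Subgroup G) = 7 := CfsgLib.Perm.card_sylow_eq_prime hn P
  have hN := CfsgLib.Perm.card_normalizer_sylow_dvd hn P
  set N := Subgroup.normalizer ((P : Subgroup G) : Set G) with hNdef
  obtain ⟨e, he⟩ : 7 ∣ Nat.card N := hP ▸ Subgroup.card_dvd_of_le Subgroup.le_normalizer
  rw [he] at hN
  have he6 : e ∣ 6 := Nat.dvd_of_mul_dvd_mul_left (by norm_num) hN
  have hmod := card_sylow_modEq_one 7 G
  rw [Sylow.card_eq_index_normalizer P] at hmod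
  have hmul := N.card_mul_index
  rw [hc, he] at hmul
  have he1 : e = 1 := by
    have hle : e ≤ 6 := Nat.le_of_dvd (by norm_num) he6
    have hm : N.index % 7 = 1 := hmod
    interval_cases e <;> omega
  subst he1
  have hNP : N = (P : Subgroup G) :=
    (Subgroup.eq_of_le_of_card_ge Subgroup.le_normalizer (by rw [hP, he])).symm
  have hcomm : IsMulCommutative (P : Subgroup G) :=
    (isCyclic_of_prime_card hP).isMulCommutative
  have hle : N ≤ Subgroup.centralizer ((P : Subgroup G) : Set G) := by
    rw [hNP]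
    exact Subgroup.le_centralizer (P : Subgroup G)
  have hK := MonoidHom.ker_transferSylow_isComplement' P hle
  set K := (MonoidHom.transferSylow P hle).ker with hKdef
  have hKc : Nat.card K = 120 := by
    have := hK.card_mul
    rw [hP, hc] at this
    omega
  have hKne : K ≠ ⊥ := fun h => by rw [h, Subgroup.card_bot] at hKc; omega
  obtain ⟨k0, hk0, hk1⟩ := K.bot_or_exists_ne_one.resolve_left hKne
  obtain ⟨p0, hp0⟩ : ∃ p0, (k0 : Perm α) p0 ≠ p0 := by
    by_contra h
    exact hk1 (Subtype.ext (Perm.ext fun p => not_not.1 fun hp => h ⟨p, hp⟩))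
  have h2 : IsMultiplyPretransitive G α 2 :=
    isMultiplyPretransitive_of_le (n := 4) (by norm_num) (by rw [Nat.card_eq_fintype_card]; omega)
  have horb : MulAction.orbit K p0 = Set.univ := by
    refine Set.eq_univ_of_forall fun q => ?_
    rcases eq_or_ne q p0 with rfl | hq
    · exact mem_orbit_self _
    obtain ⟨g, g1, g2⟩ := is_two_pretransitive_iff.1 h2 hp0.symm hq.symm
    have g1' : (g : Perm α) p0 = p0 := g1
    have g2' : (g : Perm α) ((k0 : Perm α) p0) = q := g2
    refine ⟨⟨g * k0 * g⁻¹, (MonoidHom.normal_ker _).conj_mem k0 hk0 g⟩, ?_⟩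
    change (g : Perm α) ((k0 : Perm α) ((g : Perm α)⁻¹ p0)) = q
    rw [Perm.inv_eq_iff_eq.2 g1'.symm, g2']
  have hdvd : Nat.card (MulAction.orbit K p0) ∣ Nat.card K :=
    ⟨_, (MulAction.orbitProdStabilizerEquivGroup K p0 |> Nat.card_congr).symm.trans (Nat.card_prod _ _)⟩
  rw [horb, Nat.card_coe_set_eq, Set.ncard_univ, Nat.card_eq_fintype_card (α := α), hn, hKc] at hdvd
  omega

theorem alternating_of_three_cycle_power (hn : Fintype.card α = 11) (hd : 3 ^ 4 ∣ Nat.card G) :
    ∃ t : Perm α, t.IsThreeCycle ∧ t ∈ G := by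
  have : Fact (Nat.Prime 3) := ⟨by norm_num⟩
  obtain ⟨K, hK⟩ := Sylow.exists_subgroup_card_pow_prime 3 hd
  have hf : (Nat.card (Perm α)).factorization 3 = 4 := by
    rw [Nat.card_perm, Nat.card_eq_fintype_card, hn]
    have e : Nat.factorial 11 = 3 ^ 4 * 492800 := by decide
    rw [e, Nat.factorization_mul (by norm_num) (by norm_num), Finsupp.add_apply,
      Nat.Prime.factorization_pow (by norm_num), Finsupp.single_eq_same,
      Nat.factorization_eq_zero_of_not_dvd (by norm_num)]
  let P : Sylow 3 (Perm α) := Sylow.ofCard (K.map G.subtype) (by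
    rw [Subgroup.card_map_of_injective G.subtype_injective, hK, hf])
  obtain ⟨e⟩ : Nonempty (Fin 3 ↪ α) := Function.Embedding.nonempty_of_card_le (by simp [hn])
  have hne : ∀ a b : Fin 3, a ≠ b → e a ≠ e b := fun a b hab h => hab (e.injective h)
  have ht : (Equiv.swap (e 0) (e 1) * Equiv.swap (e 0) (e 2)).IsThreeCycle :=
    Perm.isThreeCycle_swap_mul_swap_same (hne _ _ (by decide)) (hne _ _ (by decide))
      (hne _ _ (by decide))
  set t := Equiv.swap (e 0) (e 1) * Equiv.swap (e 0) (e 2)
  have hp : IsPGroup 3 (Subgroup.zpowers t) := by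
    refine IsPGroup.of_card (n := 1) ?_
    rw [Nat.card_zpowers, ht.orderOf, pow_one]
  obtain ⟨Q, hQ⟩ := hp.exists_le_sylow
  obtain ⟨g, hg⟩ := MulAction.exists_smul_eq (Perm α) Q P
  refine ⟨g * t * g⁻¹, ?_, ?_⟩
  · rw [Perm.IsThreeCycle, Perm.cycleType_conj]
    exact ht
  · have hmem : g * t * g⁻¹ ∈ (P : Subgroup (Perm α)) := by
      rw [← hg]
      exact Subgroup.smul_mem_pointwise_smul t (MulAut.conj g) _ (hQ (Subgroup.mem_zpowers t))
    exact Subgroup.map_subtype_le K hmem

theorem eleven_order (hG : IsMultiplyPretransitive G α 4) (hn : Fintype.card α = 11) {h : ℕ}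
    (hc : Nat.card G = 7920 * h) (hodd : Odd h) : h = 1 := by
  have : Fact (Nat.Prime 11) := ⟨by norm_num⟩
  have h2' : IsMultiplyPretransitive G α 2 :=
    isMultiplyPretransitive_of_le (n := 4) (by norm_num) (by rw [Nat.card_eq_fintype_card]; omega)
  have : IsPretransitive G α := isPretransitive_of_is_two_pretransitive
  have h2 : IsMultiplyPretransitive G α 2 :=
    isMultiplyPretransitive_of_le (n := 4) (by norm_num) (by rw [Nat.card_eq_fintype_card]; omega)
  have hprim : IsPreprimitive G α := isPreprimitive_of_is_two_pretransitive h2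
  have hS : Nat.card (Perm α) = 39916800 := by
    rw [Nat.card_perm, Nat.card_eq_fintype_card, hn]; decide
  have h315 : h ∣ 315 := by
    have hdvd := Subgroup.card_subgroup_dvd_card G
    rw [hc, hS] at hdvd
    have h5040 : h ∣ 5040 := Nat.dvd_of_mul_dvd_mul_left (show 0 < 7920 by norm_num) hdvd
    exact ((Nat.coprime_two_right.2 hodd).pow_right 4).dvd_of_dvd_mul_left
      (show h ∣ 2 ^ 4 * 315 from h5040)
  have hbig : ¬ alternatingGroup α ≤ G := by
    intro hle
    have : Nontrivial α := Fintype.one_lt_card_iff_nontrivial.1 (by omega)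
    have h1 := Nat.le_of_dvd Nat.card_pos (Subgroup.card_dvd_of_le hle)
    have h3 := two_mul_nat_card_alternatingGroup (α := α)
    rw [hS] at h3
    have := Nat.le_of_dvd (by norm_num) h315
    omega
  have h7 : ¬ 7 ∣ Nat.card G := by
    intro hd
    have : Fact (Nat.Prime 7) := ⟨by norm_num⟩
    obtain ⟨g, hg⟩ := exists_prime_orderOf_dvd_card' 7 hd
    have hg' : orderOf (g : Perm α) = 7 := by rw [Subgroup.orderOf_coe]; exact hg
    obtain ⟨m, hm⟩ := Perm.cycleType_prime_order (σ := (g : Perm α)) (by rw [hg']; norm_num)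
    have hsum := (g : Perm α).sum_cycleType
    have hle := Finset.card_le_univ (g : Perm α).support
    rw [hm, hg', Multiset.sum_replicate, smul_eq_mul] at hsum
    obtain rfl : m = 0 := by omega
    have hcyc : (g : Perm α).IsCycle := by
      rw [← Perm.card_cycleType_eq_one, hm]; simp
    exact hbig (CfsgLib.Perm.alternatingGroup_le_of_prime_cycle hprim (p := 7) (by omega) hcyc
      (by omega) g.2)
  have h9 : ¬ 81 ∣ Nat.card G := by
    intro hd
    obtain ⟨t, ht, htG⟩ := alternating_of_three_cycle_power hn (show 3 ^ 4 ∣ Nat.card G from hd)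
    exact hbig (Perm.alternatingGroup_le_of_isPreprimitive_of_isThreeCycle_mem hprim ht htG)
  obtain ⟨P⟩ := (inferInstance : Nonempty (Sylow 11 G))
  have hP : Nat.card (P : Subgroup G) = 11 := CfsgLib.Perm.card_sylow_eq_prime hn P
  have hN := CfsgLib.Perm.card_normalizer_sylow_dvd hn P
  set N := Subgroup.normalizer ((P : Subgroup G) : Set G) with hNdef
  obtain ⟨e, he⟩ : 11 ∣ Nat.card N := hP ▸ Subgroup.card_dvd_of_le Subgroup.le_normalizer
  rw [he] at hN
  have he10 : e ∣ 10 := Nat.dvd_of_mul_dvd_mul_left (show 0 < 11 by norm_num) hN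
  have hmod := card_sylow_modEq_one 11 G
  rw [Sylow.card_eq_index_normalizer P] at hmod
  have hm : N.index % 11 = 1 := hmod
  have hmul := N.card_mul_index
  rw [hc, he] at hmul
  rw [hc] at h7 h9
  have hh : h ∈ Nat.divisors 315 := Nat.mem_divisors.2 ⟨h315, by norm_num⟩
  have hee : e ∈ Nat.divisors 10 := Nat.mem_divisors.2 ⟨he10, by norm_num⟩
  rw [show Nat.divisors 315 = {1, 3, 5, 7, 9, 15, 21, 35, 45, 63, 105, 315} by decide] at hh
  rw [show Nat.divisors 10 = {1, 2, 5, 10} by decide] at hee
  simp only [Finset.mem_insert, Finset.mem_singleton] at hh hee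
  rcases hh with rfl | rfl | rfl | rfl | rfl | rfl | rfl | rfl | rfl | rfl | rfl | rfl
  case inl => rfl
  all_goals (rcases hee with rfl | rfl | rfl | rfl <;> omega)

/-- **M. Hall's theorem.** -/
theorem hall_four_transitive (G : Subgroup (Perm α)) (hG : IsMultiplyPretransitive G α 4)
    (x : Fin 4 ↪ α) (hodd : Odd (Nat.card (stabilizer G x))) :
    ((Fintype.card α = 4 ∨ Fintype.card α = 5) ∧ G = ⊤) ∨
      ((Fintype.card α = 6 ∨ Fintype.card α = 7) ∧ G = alternatingGroup α) ∨
      (Fintype.card α = 11 ∧ Nat.card G = 7920) := by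
  have H := hyp_of hG x hodd
  have hc := card_eq_mul hG x
  have h4 : 4 ≤ Fintype.card α := by simpa using Fintype.card_le_of_injective x x.injective
  set h := Nat.card (stabilizer G x) with hh
  have hS : Nat.card (Perm α) = (Fintype.card α).factorial := by
    rw [Nat.card_perm, Nat.card_eq_fintype_card]
  have hdvd := Subgroup.card_subgroup_dvd_card G
  rw [hS] at hdvd
  have halt : ∀ m, (Fintype.card α).descFactorial 4 * h = m → (Fintype.card α).factorial = 2 * m →
      G = alternatingGroup α := by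
    intro m hm hf
    refine Perm.eq_alternatingGroup_of_index_eq_two ?_
    have := G.card_mul_index
    rw [hc, hm, hS, hf, mul_comm 2] at this
    exact Nat.eq_of_mul_eq_mul_left (by
      rcases Nat.eq_zero_or_pos m with rfl | h0
      · exact absurd hf (Nat.factorial_ne_zero _)
      · exact h0) this
  rcases (show Fintype.card α ≤ 5 ∨ 6 ≤ Fintype.card α by omega) with h5 | h6
  · refine Or.inl ⟨by omega, Subgroup.eq_top_of_card_eq _ (Nat.dvd_antisymm
      (Subgroup.card_subgroup_dvd_card G) ?_)⟩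
    rw [hS, hc]
    rcases (show Fintype.card α = 4 ∨ Fintype.card α = 5 by omega) with e | e <;> rw [e]
    · exact dvd_mul_of_dvd_left (by decide) _
    · exact dvd_mul_of_dvd_left (by decide) _
  have hn : Fintype.card α = 6 ∨ Fintype.card α = 7 ∨ Fintype.card α = 11 := by
    by_cases hT : Two G
    · rcases H.two_degree h6 hT with e | ⟨e, e'⟩
      · omega
      · have := H.card_ne_nine
        rw [Nat.odd_iff] at e
        omega
    · exact Or.inr (Or.inr (H.one_degree h6 hT))
  rcases hn with e | e | e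
  · refine Or.inr (Or.inl ⟨Or.inl e, halt 360 ?_ (by rw [e]; decide)⟩)
    rw [hc, e] at hdvd
    rw [e]
    have h2 : h ∣ 2 := Nat.dvd_of_mul_dvd_mul_left (show 0 < 360 by norm_num) hdvd
    rcases (Nat.dvd_prime Nat.prime_two).1 h2 with h1 | h1
    · rw [h1]; rfl
    · rw [Nat.odd_iff] at hodd; omega
  · refine Or.inr (Or.inl ⟨Or.inr e, halt 2520 ?_ (by rw [e]; decide)⟩)
    rw [hc, e] at hdvd
    rw [e]
    have h6' : h ∣ 6 := Nat.dvd_of_mul_dvd_mul_left (show 0 < 840 by norm_num) hdvd
    have := Nat.le_of_dvd (by norm_num) h6'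
    rw [Nat.odd_iff] at hodd
    interval_cases h
    all_goals first | omega | rfl | skip
    exact (no_seven_order hG e (by rw [hc, e]; rfl)).elim
  · refine Or.inr (Or.inr ⟨e, ?_⟩)
    have hc' : Nat.card G = 7920 * h := by rw [hc, e]; rfl
    rw [hc', eleven_order hG e hc' hodd]

end CfsgLib.CharsMore.FourTrans
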