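import Cfsg.Agent.Lib.CharsMore.FourTrans.Basic

/-!
The case of two commuting involutions with the same fixed points.
-/

set_option autoImplicit false

namespace CfsgLib.CharsMore.FourTrans

open Equiv

variable {α : Type*} [Fintype α] [DecidableEq α] {G : Subgroup (Perm α)}

/-- Two commuting involutions with the same fixed points exist. -/
def Two (G : Subgroup (Perm α)) : Prop :=
  ∃ a c, Inv G a ∧ Inv G c ∧ Commute a c ∧ a ≠ c ∧ fx a = fx c

/-- For commuting `a`, `c` with equal fixed points on a quadruple, every involution with the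
pattern of `a` has these fixed points. -/
theorem Hyp.fx_pattern (hG : Hyp G) (h6 : 6 ≤ Fintype.card α) {a c x : Perm α} (ha : Inv G a)
    (hc : Inv G c) (hx : Inv G x) (hac : Commute a c) (hF : fx a = fx c) {i j k l : α}
    (hd : D4 i j k l) (a1 : a i = j) (a2 : a k = l) (c1 : c i = k) (c2 : c j = l)
    (x1 : x i = j) (x2 : x k = l) : fx x = fx a := by
  have a1' : a j = i := by rw [← a1, ha.app]
  have a2' : a l = k := by rw [← a2, ha.app]
  have c1' : c k = i := by rw [← c1, hc.app]
  have c2' : c l = j := by rw [← c2, hc.app]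
  have x1' : x j = i := by rw [← x1, hx.app]
  have x2' : x l = k := by rw [← x2, hx.app]
  obtain ⟨m, hz, hag⟩ := hG.exists_inv (mul_mem hc.mem hx.mem) hd
    (by simp [x1, c2, x2', c1']) (by simp [x1', c1, x2, c2'])
    (by simp [x2, c2', x1', c1]) (by simp [x2', c1', x1, c2])
    (p0 := i) (by simp [x1, c2, x2', c1']) (by simp [x1, c2, hd.il.symm])
  set z := (c * x) ^ m with hzdef
  have hxz : Commute x z := by
    refine commute_pow_of_invert hx.sq ?_ m hz.sq
    rw [mul_inv_rev, hx.inv_eq, hc.inv_eq, show x * (c * x) * x = x * c * (x * x) by group, hx.sq,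
      mul_one]
  have hcz : Commute c z := by
    refine commute_pow_of_invert hc.sq ?_ m hz.sq
    rw [mul_inv_rev, hx.inv_eq, hc.inv_eq, show c * (c * x) * c = (c * c) * (x * c) by group, hc.sq,
      one_mul]
  have hz1 : z i = l := by rw [hzdef, hag i (by simp [x1, c2, x2', c1'])]; simp [x1, c2]
  have hz2 : z j = k := by rw [hzdef, hag j (by simp [x1', c1, x2, c2'])]; simp [x1', c1]
  have hd' : Inv G (a * c) := by
    refine Inv.mk' (mul_mem ha.mem hc.mem) ?_ (p := i) ?_
    · rw [show a * c * (a * c) = a * (c * a) * c by group, ← hac.eq,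
        show a * (a * c) * c = (a * a) * (c * c) by group, ha.sq, hc.sq, one_mul]
    · simp [c1, a2, hd.il.symm]
  have hfd : fx (a * c) = fx a := by
    refine hG.fx_eq_of_subset h6 ha hd' fun p hp => ?_
    have hpc : c p = p := mem_fx.1 (hF ▸ hp)
    rw [mem_fx, Perm.mul_apply, hpc, mem_fx.1 hp]
  have hzl : z l = i := by rw [← hz1, hz.app]
  have hzk : z k = j := by rw [← hz2, hz.app]
  obtain ⟨q, -, hq, hqc, q1, q2, q3, q4⟩ := hG.conj_of_agree hz hd' hd
    (by simp [c1, a2, hz1]) (by simp [c2, a2', hz2]) (by simp [c1', a1, hzk])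
    (by simp [c2', a1', hzl])
  have hcq : Commute c q :=
    hqc c hcz ((hac.symm).mul_right (Commute.refl c))
  have hfz : fx z = fx a := by
    rw [← hq, fx_conj, hfd, hF]
    exact fx_conj_commute hcq
  have hqi : ∀ p, q p = p → q.symm p = p := fun p hp => (Equiv.symm_apply_eq q).2 hp.symm
  have ha' : Inv G (q * a * q⁻¹) := by
    refine Inv.mk' ?_ ?_ (p := i) ?_
    · have : q * a * q⁻¹ = q * (a * c) * q⁻¹ * c := by
        calc q * a * q⁻¹ = q * (a * (c * c)) * q⁻¹ := by rw [hc.sq, mul_one]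
          _ = q * (a * c) * (c * q⁻¹) := by simp only [mul_assoc]
          _ = q * (a * c) * (q⁻¹ * c) := by rw [hcq.inv_right.eq]
          _ = q * (a * c) * q⁻¹ * c := by simp only [mul_assoc]
      rw [this, hq]
      exact mul_mem hz.mem hc.mem
    · rw [show q * a * q⁻¹ * (q * a * q⁻¹) = q * (a * a) * q⁻¹ by group, ha.sq]; group
    · simp [hqi i q1, a1, q2, hd.ij.symm]
  have hfa' : fx (q * a * q⁻¹) = fx a := by
    rw [fx_conj, hF]
    exact fx_conj_commute hcq
  have ha'z : Commute z (q * a * q⁻¹) := by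
    rw [← hq]
    have h0 : Commute (a * c) a := (Commute.refl a).mul_left hac.symm
    unfold Commute SemiconjBy
    rw [show q * (a * c) * q⁻¹ * (q * a * q⁻¹) = q * (a * c * a) * q⁻¹ by group, h0.eq]
    group
  obtain ⟨r, -, hr, hrc, -⟩ := hG.conj_of_agree hx ha' hd
    (by simp [hqi i q1, a1, q2, x1]) (by simp [hqi j q2, a1', q1, x1'])
    (by simp [hqi k q3, a2, q4, x2]) (by simp [hqi l q4, a2', q3, x2'])
  have hzr : Commute z r := hrc z hxz.symm ha'z
  rw [← hr, fx_conj, hfa', ← hfz]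
  exact fx_conj_commute hzr

/-- With two commuting involutions with equal fixed points, any two involutions with different
double transposition patterns on a quadruple have equal fixed points. -/
theorem Hyp.two_pattern (hG : Hyp G) (h6 : 6 ≤ Fintype.card α) (hT : Two G) {x y : Perm α}
    (hx : Inv G x) (hy : Inv G y) {i j k l : α} (hd : D4 i j k l) (x1 : x i = j) (x2 : x k = l)
    (y1 : y i = k) (y2 : y j = l) : fx x = fx y := by
  obtain ⟨a, c, ha, hc, hac, hne, hF⟩ := hT
  obtain ⟨p, hp⟩ := ha.exists_moved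
  have hcp : c p ≠ p := fun e => hp (mem_fx.1 (hF ▸ mem_fx.2 e))
  have hcne : c p ≠ a p := by
    intro e
    have h1 : (a * c) p = p := by rw [Perm.mul_apply, e, ha.app]
    have hac1 : a * c ≠ 1 := fun h => hne (by
      rw [eq_inv_of_mul_eq_one_left h, hc.inv_eq])
    have hac2 : Inv G (a * c) :=
      ⟨mul_mem ha.mem hc.mem, by
        rw [show a * c * (a * c) = a * (c * a) * c by group, ← hac.eq,
          show a * (a * c) * c = (a * a) * (c * c) by group, ha.sq, hc.sq, one_mul], hac1⟩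
    have hsub : fx a ⊆ fx (a * c) := fun r hr => by
      have hrc : c r = r := mem_fx.1 (hF ▸ hr)
      rw [mem_fx, Perm.mul_apply, hrc, mem_fx.1 hr]
    have := hG.fx_eq_of_subset h6 ha hac2 hsub
    exact hp (mem_fx.1 (this ▸ mem_fx.2 h1))
  have hacp : c (a p) = a (c p) := by rw [← Perm.mul_apply, ← hac.eq, Perm.mul_apply]
  have hd0 : D4 p (a p) (c p) (a (c p)) := by
    refine ⟨hp.symm, hcp.symm, fun e => hcne (a.injective ?_), hcne.symm,
      fun e => hcp (a.injective e).symm, fun e => hcp ?_⟩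
    · rw [← e, ha.app]
    · have : c p ∈ fx c := hF ▸ mem_fx.2 e.symm
      rw [mem_fx, hc.app] at this
      exact this.symm
  obtain ⟨g, hg, g1, g2, g3, g4⟩ := hG.map _ _ _ _ _ _ _ _ hd hd0
  have hgi : ∀ u v, g u = v → g.symm v = u := fun u v e => by rw [← e]; simp
  have hx' := hx.conj hg
  have hy' := hy.conj hg
  have e1 : fx (g * x * g⁻¹) = fx a :=
    hG.fx_pattern h6 ha hc hx' hac hF hd0 rfl rfl rfl hacp
      (by simp [hgi _ _ g1, x1, g2]) (by simp [hgi _ _ g3, x2, g4])
  have e2 : fx (g * y * g⁻¹) = fx c :=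
    hG.fx_pattern h6 hc ha hy' hac.symm hF.symm
      ⟨hd0.ik, hd0.ij, hd0.il, hd0.jk.symm, hd0.kl, hd0.jl⟩ rfl hacp rfl rfl
      (by simp [hgi _ _ g1, y1, g3]) (by simp [hgi _ _ g2, y2, g4])
  rw [← hF, ← e1, fx_conj, fx_conj] at e2
  exact (Finset.image_injective g.injective e2).symm

/-- In that case the degree is at most `fx + 2 + 2 * choose fx 2`. -/
theorem Hyp.two_degree (hG : Hyp G) (h6 : 6 ≤ Fintype.card α) (hT : Two G) :
    Fintype.card α ≤ 6 ∨ (Odd (Fintype.card α) ∧ Fintype.card α ≤ 11) := by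
  obtain ⟨a0, -, ha0, -, -, -, -⟩ := id hT
  obtain ⟨i, hi⟩ := ha0.exists_moved
  have hmain : ∀ k, a0 k ≠ k → k ≠ i → k ≠ a0 i → ∃ s : Finset α, s ∈ (fx a0).powersetCard 2 ∧
      ∃ a, Inv G a ∧ a k = k ∧ a (a0 k) = a0 k ∧ a i = a0 i ∧ ∃ u v, u ≠ v ∧ s = {u, v} ∧ a u = v := by
    intro k hk hk1 hk2
    have hd := ha0.d4 hi hk hk1 hk2
    obtain ⟨g, hg, g1, g2, g3⟩ := hG.liftA
      (i := k) (j := a0 k) (k := i) (l := a0 i)
      ⟨hd.kl, hd.ik.symm, hd.jk.symm, hd.il.symm, hd.jl.symm, hd.ij⟩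
    have g3' : g (a0 i) = i := by rw [← g3, hg.app]
    obtain ⟨a, ha, hac, hag⟩ := hG.commLift ha0 hg hd
      (by simp [ha0.app, g3, g3']) (by simp [ha0.app, g3, g3'])
      (by simp [ha0.app, g1, g2]) (by simp [ha0.app, g1, g2])
      (p0 := k) (by simp [ha0.app, g1, g2]) (by rw [g2]; exact hk)
      (p1 := i) (by simp [ha0.app, g3, g3']) (by rw [g3]; exact hi)
    have e1 : a i = a0 i := by rw [hag i (by simp [ha0.app, g3, g3']), g3]
    have e2 : a k = k := by rw [hag k (by simp [g1, g2]), g1]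
    have e3 : a (a0 k) = a0 k := by rw [hag (a0 k) (by simp [ha0.app, g1, g2]), g2]
    obtain ⟨u, hu, hau⟩ : ∃ u ∈ fx a0, a u ≠ u := by
      by_contra hh
      have hh' : ∀ u ∈ fx a0, a u = u := fun u hu => not_not.1 fun e => hh ⟨u, hu, e⟩
      have hsub : fx a0 ⊆ fx a := fun u hu => mem_fx.2 (hh' u hu)
      have := hG.fx_eq_of_subset h6 ha0 ha hsub
      exact hk (mem_fx.1 (this ▸ mem_fx.2 e2))
    exact ⟨{u, a u}, Finset.mem_powersetCard.2 ⟨by
      intro p hp
      simp only [Finset.mem_insert, Finset.mem_singleton] at hp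
      rcases hp with rfl | rfl
      · exact hu
      · exact commute_fx hac.symm hu, Finset.card_pair (Ne.symm hau)⟩,
      a, ha, e2, e3, e1, u, a u, Ne.symm hau, rfl, rfl⟩
  set R := Finset.univ.filter fun k => a0 k ≠ k ∧ k ≠ i ∧ k ≠ a0 i with hR
  have hchoice : ∀ k, ∃ s : Finset α, k ∈ R → s ∈ (fx a0).powersetCard 2 ∧
      ∃ a, Inv G a ∧ a k = k ∧ a (a0 k) = a0 k ∧ a i = a0 i ∧ ∃ u v, u ≠ v ∧ s = {u, v} ∧ a u = v := by
    intro k
    by_cases hk : k ∈ R
    · simp only [hR, Finset.mem_filter] at hk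
      obtain ⟨s, hs⟩ := hmain k hk.2.1 hk.2.2.1 hk.2.2.2
      exact ⟨s, fun _ => hs⟩
    · exact ⟨∅, fun h => absurd h hk⟩
  choose f hf using hchoice
  have hfib : ∀ s ∈ (fx a0).powersetCard 2, (R.filter fun k => f k = s).card ≤ 2 := by
    intro s _
    by_contra hgt
    obtain ⟨k, hk, k', hk', k'', hk'', h1, h2, h3⟩ := Finset.two_lt_card.1 (Nat.lt_of_not_le hgt)
    obtain ⟨k', hk', hne1, hne2⟩ : ∃ q ∈ R.filter (fun k => f k = s), q ≠ k ∧ q ≠ a0 k := by
      by_cases e : k' = a0 k
      · exact ⟨k'', hk'', h2.symm, fun e' => h3 (e.trans e'.symm)⟩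
      · exact ⟨k', hk', h1.symm, e⟩
    rw [Finset.mem_filter] at hk hk'
    obtain ⟨hs1, a, ha, e2, e3, e1, u, v, huv, es, eu⟩ := hf k hk.1
    obtain ⟨-, a', ha', e2', e3', e1', u', v', -, es', eu'⟩ := hf k' hk'.1
    rw [hk.2] at es hs1
    rw [hk'.2] at es'
    have hau' : a' u = v := by
      have hm : u' ∈ ({u, v} : Finset α) := by rw [← es, es']; simp
      have hm2 : v' ∈ ({u, v} : Finset α) := by rw [← es, es']; simp
      have hm3 : u ∈ ({u', v'} : Finset α) := by rw [← es', es]; simp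
      have hm4 : v ∈ ({u', v'} : Finset α) := by rw [← es', es]; simp
      simp only [Finset.mem_insert, Finset.mem_singleton] at hm hm2 hm3 hm4
      rcases hm3 with rfl | rfl
      · rcases hm4 with rfl | rfl
        · exact absurd rfl huv
        · exact eu'
      · rcases hm4 with rfl | rfl
        · rw [← eu', ha'.app]
        · exact absurd rfl huv
    have hsub := (Finset.mem_powersetCard.1 hs1).1
    rw [es] at hsub
    have hu : a0 u = u := mem_fx.1 (hsub (by simp))
    have hv : a0 v = v := mem_fx.1 (hsub (by simp))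
    have hd : D4 i (a0 i) u v :=
      ⟨hi.symm, fun e => hi (e ▸ hu), fun e => hi (e ▸ hv),
        fun e => hi (a0.injective (hu.trans e.symm) ▸ hu) ,
        fun e => hi (a0.injective (hv.trans e.symm) ▸ hv), huv⟩
    obtain ⟨y, hy, y1, y2⟩ := hG.liftB (i := i) (j := u) (k := a0 i) (l := v)
      ⟨hd.ik, hd.ij, hd.il, hd.jk.symm, hd.kl, hd.jl⟩
    have q1 := hG.two_pattern h6 hT ha hy hd e1 eu y1 y2
    have q2 := hG.two_pattern h6 hT ha' hy hd e1' hau' y1 y2
    rw [← q2] at q1
    have hm : ({k, a0 k, k', a0 k'} : Finset α) ⊆ fx a := by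
      intro p hp
      simp only [Finset.mem_insert, Finset.mem_singleton] at hp
      rcases hp with rfl | rfl | rfl | rfl
      · exact mem_fx.2 e2
      · exact mem_fx.2 e3
      · exact q1 ▸ mem_fx.2 e2'
      · exact q1 ▸ mem_fx.2 e3'
    have hkR := hk.1
    have hkR' := hk'.1
    simp only [hR, Finset.mem_filter] at hkR hkR'
    have hc4 : ({k, a0 k, k', a0 k'} : Finset α).card = 4 := by
      have h' := ha0.d4 hkR.2.1 hkR'.2.1 hne1 hne2
      rw [Finset.card_insert_of_notMem (by simp [h'.ij, h'.ik, h'.il]),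
        Finset.card_insert_of_notMem (by simp [h'.jk, h'.jl]), Finset.card_pair h'.kl]
    have := Finset.card_le_card hm
    have := hG.card_fx_le ha
    omega
  have hcount := Finset.card_le_mul_card_image_of_maps_to
    (fun k hk => (hf k hk).1) 2 hfib
  rw [Finset.card_powersetCard] at hcount
  have hRc : R = (fx a0 ∪ {i, a0 i})ᶜ := by
    ext k; simp [hR, mem_fx]; tauto
  have hdis : Disjoint (fx a0) ({i, a0 i} : Finset α) := by
    rw [Finset.disjoint_left]
    intro p hp hp'
    simp only [Finset.mem_insert, Finset.mem_singleton] at hp'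
    rcases hp' with rfl | rfl
    · exact hi (mem_fx.1 hp)
    · exact hi (by have := mem_fx.1 hp; rw [ha0.app] at this; exact this.symm)
  rw [hRc, Finset.card_compl, Finset.card_union_of_disjoint hdis, Finset.card_pair hi.symm] at hcount
  obtain ⟨h2, h3, hpar⟩ := hG.card_fx_bounds h6 ha0
  rcases (show (fx a0).card = 2 ∨ (fx a0).card = 3 by omega) with e | e <;> rw [e] at hcount hpar
  · left; norm_num [Nat.choose] at hcount; omega
  · right
    norm_num [Nat.choose] at hcount
    exact ⟨Nat.odd_iff.2 (by omega), by omega⟩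

end CfsgLib.CharsMore.FourTrans
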