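import Cfsg.Agent.Lib.CharsMore.FourTrans.Basic
import Cfsg.Agent.Lib.CharsMore.FourTrans.TypeZero
import Cfsg.Agent.Lib.Involutions.ZStar.Main
import Cfsg.Agent.Lib.FT.OddOrderTheorem

/-!
The case without commuting involutions with the same fixed points.
-/

set_option autoImplicit false

namespace CfsgLib.CharsMore.FourTrans

open Equiv

variable {α : Type*} [Fintype α] [DecidableEq α] {G : Subgroup (Perm α)}

/-- The stabiliser of two points in `G`. -/
def stab2 (G : Subgroup (Perm α)) (u v : α) : Subgroup (Perm α) :=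
  G ⊓ MulAction.stabilizer (Perm α) u ⊓ MulAction.stabilizer (Perm α) v

theorem mem_stab2 {u v : α} {g : Perm α} : g ∈ stab2 G u v ↔ g ∈ G ∧ g u = u ∧ g v = v := by
  simp [stab2, Subgroup.mem_inf, MulAction.mem_stabilizer_iff, Perm.smul_def, and_assoc]

theorem exists_odd_normal {u v : α} {a : Perm α} (haX : a ∈ stab2 G u v) (hord : orderOf a = 2)
    (hiso : ∀ g ∈ stab2 G u v, Commute a (g * a * g⁻¹) → g * a * g⁻¹ = a) :
    ∃ N : Subgroup (Perm α), N ≤ stab2 G u v ∧ Odd (Nat.card N) ∧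
      (∀ g ∈ stab2 G u v, ∀ n ∈ N, g * n * g⁻¹ ∈ N) ∧
      (∀ g ∈ stab2 G u v, a * g * a⁻¹ * g⁻¹ ∈ N) ∧
      (N = ⊥ ∨ ∃ T : Subgroup (Perm α), T ≤ N ∧ T ≠ ⊥ ∧ (∀ x ∈ T, ∀ y ∈ T, x * y = y * x) ∧
        ∀ g ∈ stab2 G u v, ∀ t ∈ T, g * t * g⁻¹ ∈ T) := by
  classical
  set X := stab2 G u v with hX
  let a' : X := ⟨a, haX⟩
  have ha' : Cfsg.IsIsolatedInvolution a' := by
    refine ⟨by rw [Subgroup.orderOf_mk]; exact hord, fun g hg => Subtype.ext ?_⟩
    exact hiso g g.2 (congrArg Subtype.val hg)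
  let O : Subgroup X := Cfsg.oddCore X
  have hO : O.Normal := Cfsg.pPrimeCore_normal 2 X
  have hodd : Odd (Nat.card O) := CfsgLib.Base.odd_card_oddCore X
  refine ⟨O.map X.subtype, Subgroup.map_subtype_le _, ?_, ?_, ?_, ?_⟩
  · rwa [Subgroup.card_map_of_injective X.subtype_injective]
  · rintro g hg _ ⟨n, hn, rfl⟩
    exact ⟨⟨g, hg⟩ * n * ⟨g, hg⟩⁻¹, hO.conj_mem n hn _, rfl⟩
  · intro g hg
    exact ⟨_, CfsgLib.Involutions.ZStar.centralModCore ha' ⟨g, hg⟩, rfl⟩
  rcases eq_or_ne O ⊥ with e | e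
  · exact Or.inl (by rw [e, Subgroup.map_bot])
  right
  have hs : Group.IsSolvable O := CfsgLib.FT.isSolvable_of_odd hodd
  have hex : ∃ m, derivedSeries O m = ⊥ := by
    obtain ⟨n, hn⟩ := hs.solvable
    exact ⟨n, hn⟩
  set m := Nat.find hex with hm
  have hm0 : m ≠ 0 := by
    intro h0
    have := Nat.find_spec hex
    rw [← hm, h0, derivedSeries_zero] at this
    refine e ((Subgroup.eq_bot_iff_forall O).2 fun x hx => ?_)
    have hx' : (⟨x, hx⟩ : O) ∈ (⊥ : Subgroup O) := this ▸ Subgroup.mem_top _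
    exact congrArg Subtype.val (Subgroup.mem_bot.1 hx')
  obtain ⟨r, hr⟩ := Nat.exists_eq_succ_of_ne_zero hm0
  have hbot : derivedSeries O (r + 1) = ⊥ := by
    have := Nat.find_spec hex
    rwa [← hm, hr] at this
  have hne : derivedSeries O r ≠ ⊥ := Nat.find_min hex (by omega)
  have : (derivedSeries O r).Characteristic := derivedSeries_characteristic O r
  have hT : ((derivedSeries O r).map O.subtype).Normal := inferInstance
  refine ⟨((derivedSeries O r).map O.subtype).map X.subtype,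
    Subgroup.map_mono (Subgroup.map_subtype_le _), ?_, ?_, ?_⟩
  · intro h
    apply hne
    rw [Subgroup.map_eq_bot_iff_of_injective _ X.subtype_injective,
      Subgroup.map_eq_bot_iff_of_injective _ O.subtype_injective] at h
    exact h
  · rintro _ ⟨_, ⟨x, hx, rfl⟩, rfl⟩ _ ⟨_, ⟨y, hy, rfl⟩, rfl⟩
    rw [derivedSeries_succ, Subgroup.commutator_eq_bot_iff_le_centralizer] at hbot
    have := Subgroup.mem_centralizer_iff.1 (hbot hx) y hy
    have h2 := congrArg (fun z : O => ((z : X) : Perm α)) this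
    simpa using h2.symm
  · rintro g hg _ ⟨t, ht, rfl⟩
    exact ⟨⟨g, hg⟩ * t * ⟨g, hg⟩⁻¹, hT.conj_mem t ht _, rfl⟩

/-- A normalised nontrivial subgroup of a two point stabiliser is transitive on the other points. -/
theorem Hyp.transitive_of_normalized (hG : Hyp G) {u v : α} (huv : u ≠ v)
    {N : Subgroup (Perm α)} (hNX : N ≤ stab2 G u v)
    (hN : ∀ g ∈ stab2 G u v, ∀ n ∈ N, g * n * g⁻¹ ∈ N) (hne : N ≠ ⊥) :
    ∀ p q, p ≠ u → p ≠ v → q ≠ u → q ≠ v → ∃ n ∈ N, n p = q := by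
  obtain ⟨n0, hn0, hn1⟩ := N.bot_or_exists_ne_one.resolve_left hne
  obtain ⟨p0, hp0⟩ : ∃ p0, n0 p0 ≠ p0 := by
    by_contra h
    exact hn1 (Perm.ext fun p => not_not.1 fun hp => h ⟨p, hp⟩)
  obtain ⟨-, hu, hv⟩ := mem_stab2.1 (hNX hn0)
  have h1 : p0 ≠ u := fun e => hp0 (by rw [e, hu])
  have h2 : p0 ≠ v := fun e => hp0 (by rw [e, hv])
  have h3 : n0 p0 ≠ u := fun e => h1 (n0.injective (e.trans hu.symm))
  have h4 : n0 p0 ≠ v := fun e => h2 (n0.injective (e.trans hv.symm))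
  have key : ∀ q, q ≠ u → q ≠ v → q ≠ p0 → ∃ n ∈ N, n p0 = q := by
    intro q a b c
    obtain ⟨g, hg, g1, g2, g3, g4⟩ := hG.map u v p0 (n0 p0) u v p0 q
      ⟨huv, h1.symm, h3.symm, h2.symm, h4.symm, hp0.symm⟩ ⟨huv, h1.symm, a.symm, h2.symm, b.symm, c.symm⟩
    refine ⟨g * n0 * g⁻¹, hN g (mem_stab2.2 ⟨hg, g1, g2⟩) n0 hn0, ?_⟩
    have : g⁻¹ p0 = p0 := Perm.inv_eq_iff_eq.2 g3.symm
    rw [Perm.mul_apply, Perm.mul_apply, this, g4]
  intro p q a b c d
  have get : ∀ p, p ≠ u → p ≠ v → ∃ n ∈ N, n p0 = p := by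
    intro p a b
    rcases eq_or_ne p p0 with rfl | e
    · exact ⟨1, one_mem N, rfl⟩
    · exact key p a b e
  obtain ⟨n, hn, hnp⟩ := get p a b
  obtain ⟨n', hn', hnq⟩ := get q c d
  refine ⟨n' * n⁻¹, mul_mem hn' (inv_mem hn), ?_⟩
  rw [Perm.mul_apply, ← hnp, ← hnq]
  simp

theorem Hyp.not_central (hG : Hyp G) (h6 : 6 ≤ Fintype.card α) {u v : α} (huv : u ≠ v)
    {a : Perm α} (ha : Inv G a) (hau : a u = u) (hav : a v = v)
    (hc : ∀ g ∈ stab2 G u v, a * g = g * a) : False := by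
  obtain ⟨p, hp⟩ := ha.exists_moved
  have h1 : u ≠ p := fun e => hp (e ▸ hau)
  have h2 : v ≠ p := fun e => hp (e ▸ hav)
  have h3 : u ≠ a p := fun e => h1 (a.injective (hau.trans e))
  have h4 : v ≠ a p := fun e => h2 (a.injective (hav.trans e))
  obtain ⟨q, hq⟩ := exists_fresh ({u, v, p, a p} : Finset α) (by
    have := Finset.card_le_four (a := u) (b := v) (c := p) (d := a p)
    omega)
  simp only [Finset.mem_insert, Finset.mem_singleton, not_or] at hq
  obtain ⟨g, hg, g1, g2, g3, g4⟩ := hG.map u v p (a p) u v p q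
    ⟨huv, h1, h3, h2, h4, hp.symm⟩ ⟨huv, h1, Ne.symm hq.1, h2, Ne.symm hq.2.1, Ne.symm hq.2.2.1⟩
  have := DFunLike.congr_fun (hc g (mem_stab2.2 ⟨hg, g1, g2⟩)) p
  rw [Perm.mul_apply, Perm.mul_apply, g3, g4] at this
  exact hq.2.2.2 this.symm

theorem Hyp.conj_eq (hG : Hyp G) (hT : ¬ Two G) {a b : Perm α} (ha : Inv G a) (hb : Inv G b)
    (hc : Commute a b) (hF : fx a = fx b) : a = b :=
  not_not.1 fun h => hT ⟨a, b, ha, hb, hc, h, hF⟩

/-- Without two such involutions the degree is odd. -/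
theorem Hyp.one_not_even (hG : Hyp G) (h6 : 6 ≤ Fintype.card α) (hT : ¬ Two G)
    (heven : Even (Fintype.card α)) : False := by
  obtain ⟨i, j, k, l, hd⟩ := exists_four (α := α) (by omega)
  obtain ⟨a, ha, hai, haj, -⟩ := hG.liftA hd
  obtain ⟨h2, h3, hpar⟩ := hG.card_fx_bounds h6 ha
  rw [Nat.even_iff] at heven
  have haX : a ∈ stab2 G i j := mem_stab2.2 ⟨ha.mem, hai, haj⟩
  have hfa : ({i, j} : Finset α) = fx a := by
    refine Finset.eq_of_subset_of_card_le ?_ (by rw [Finset.card_pair hd.ij]; omega)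
    intro p hp
    simp only [Finset.mem_insert, Finset.mem_singleton] at hp
    rcases hp with rfl | rfl <;> rwa [mem_fx]
  have hiso : ∀ g ∈ stab2 G i j, Commute a (g * a * g⁻¹) → g * a * g⁻¹ = a := by
    intro g hg hc
    obtain ⟨hgG, g1, g2⟩ := mem_stab2.1 hg
    refine (hG.conj_eq hT ha (ha.conj hgG) hc ?_).symm
    rw [fx_conj, ← hfa, Finset.image_insert, Finset.image_singleton, g1, g2]
  obtain ⟨N, hNX, hodd, hN, hcomm, -⟩ := exists_odd_normal haX ha.orderOf_eq hiso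
  rcases eq_or_ne N ⊥ with e | e
  · refine hG.not_central h6 hd.ij ha hai haj fun g hg => ?_
    have := hcomm g hg
    rw [e, Subgroup.mem_bot, mul_inv_eq_one, mul_inv_eq_iff_eq_mul] at this
    exact this
  have htr := hG.transitive_of_normalized hd.ij hNX hN e
  have horb : MulAction.orbit N k = ({i, j} : Set α)ᶜ := by
    ext p
    simp only [MulAction.mem_orbit_iff, Set.mem_compl_iff, Set.mem_insert_iff, Set.mem_singleton_iff,
      not_or]
    constructor
    · rintro ⟨⟨n, hn⟩, rfl⟩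
      obtain ⟨-, n1, n2⟩ := mem_stab2.1 (hNX hn)
      exact ⟨fun e => hd.ik (n.injective (n1.trans e.symm)),
        fun e => hd.jk (n.injective (n2.trans e.symm))⟩
    · rintro ⟨h1, h2⟩
      obtain ⟨n, hn, he⟩ := htr k p hd.ik.symm hd.jk.symm h1 h2
      exact ⟨⟨n, hn⟩, he⟩
  have hdvd : Nat.card (MulAction.orbit N k) ∣ Nat.card N :=
    ⟨_, (MulAction.orbitProdStabilizerEquivGroup N k |> Nat.card_congr).symm.trans (Nat.card_prod _ _)⟩
  rw [horb, Nat.card_coe_set_eq, Set.ncard_compl, Set.ncard_pair hd.ij, Nat.card_eq_fintype_card] at hdvd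
  have := hodd.of_dvd_nat hdvd
  rw [Nat.odd_iff] at this
  omega

/-- Without two such involutions each three points are fixed by just one involution. -/
theorem Hyp.one_unique (hG : Hyp G) (h6 : 6 ≤ Fintype.card α) (hT : ¬ Two G) {a b : Perm α}
    (ha : Inv G a) (hb : Inv G b) {u v w : α} (huv : u ≠ v) (huw : u ≠ w) (hvw : v ≠ w)
    (hau : a u = u) (hav : a v = v) (haw : a w = w)
    (hbu : b u = u) (hbv : b v = v) (hbw : b w = w) : a = b := by
  have hcard : ({u, v, w} : Finset α).card = 3 := by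
    rw [Finset.card_insert_of_notMem (by simp [huv, huw]), Finset.card_pair hvw]
  have hfx : ∀ c, Inv G c → c u = u → c v = v → c w = w → fx c = {u, v, w} := by
    intro c hc c1 c2 c3
    refine (Finset.eq_of_subset_of_card_le ?_ (by rw [hcard]; exact hG.card_fx_le hc)).symm
    intro p hp
    simp only [Finset.mem_insert, Finset.mem_singleton] at hp
    rcases hp with rfl | rfl | rfl <;> rwa [mem_fx]
  have hfa := hfx a ha hau hav haw
  have haX : a ∈ stab2 G u v := mem_stab2.2 ⟨ha.mem, hau, hav⟩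
  have hiso : ∀ g ∈ stab2 G u v, Commute a (g * a * g⁻¹) → g * a * g⁻¹ = a := by
    intro g hg hc
    obtain ⟨hgG, g1, g2⟩ := mem_stab2.1 hg
    have hb' := ha.conj hgG
    have c1 : (g * a * g⁻¹) u = u := by
      rw [Perm.mul_apply, Perm.mul_apply, Perm.inv_eq_iff_eq.2 g1.symm, hau, g1]
    have c2 : (g * a * g⁻¹) v = v := by
      rw [Perm.mul_apply, Perm.mul_apply, Perm.inv_eq_iff_eq.2 g2.symm, hav, g2]
    have hm := commute_fx hc (show w ∈ fx a by rw [hfa]; simp)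
    rw [hfa] at hm
    simp only [Finset.mem_insert, Finset.mem_singleton] at hm
    have c3 : (g * a * g⁻¹) w = w := by
      rcases hm with e | e | e
      · exact absurd ((g * a * g⁻¹).injective (e.trans c1.symm)) huw.symm
      · exact absurd ((g * a * g⁻¹).injective (e.trans c2.symm)) hvw.symm
      · exact e
    exact (hG.conj_eq hT ha hb' hc (hfa.trans (hfx _ hb' c1 c2 c3).symm)).symm
  obtain ⟨N, hNX, -, -, hcomm, hT'⟩ := exists_odd_normal haX ha.orderOf_eq hiso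
  refine hG.conj_eq hT ha hb ?_ (hfa.trans (hfx b hb hbu hbv hbw).symm)
  rcases hT' with e | ⟨T, hTN, hT1, hab, hTn⟩
  · exact (hG.not_central h6 huv ha hau hav fun g hg => by
      have := hcomm g hg
      rw [e, Subgroup.mem_bot, mul_inv_eq_one, mul_inv_eq_iff_eq_mul] at this
      exact this).elim
  have hTX : T ≤ stab2 G u v := hTN.trans hNX
  have htr := hG.transitive_of_normalized huv hTX hTn hT1
  have hfixw : ∀ s ∈ T, s w = w → s = 1 := by
    intro s hs hsw
    refine Perm.ext fun p => ?_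
    rw [Perm.one_apply]
    obtain ⟨-, s1, s2⟩ := mem_stab2.1 (hTX hs)
    rcases eq_or_ne p u with rfl | p1
    · exact s1
    rcases eq_or_ne p v with rfl | p2
    · exact s2
    obtain ⟨t, ht, rfl⟩ := htr w p huw.symm hvw.symm p1 p2
    rw [← Perm.mul_apply, hab s hs t ht, Perm.mul_apply, hsw]
  have hinv : ∀ t ∈ T, a * t * a⁻¹ = t⁻¹ := by
    intro t ht
    have h1 : a * t * a⁻¹ ∈ T := hTn a haX t ht
    have hc : Commute a (t * (a * t * a⁻¹)) := by
      have e1 : a * (t * (a * t * a⁻¹)) = (a * t * a⁻¹) * t * a := by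
        calc a * (t * (a * t * a⁻¹)) = (a * t * a⁻¹) * ((a * a) * t * a⁻¹) := by group
          _ = (a * t * a⁻¹) * t * a := by rw [ha.sq, one_mul, ha.inv_eq, ← mul_assoc]
      unfold Commute SemiconjBy
      rw [e1, hab _ h1 t ht]
    have hsT := mul_mem ht h1
    obtain ⟨-, s1, s2⟩ := mem_stab2.1 (hTX hsT)
    have hm := commute_fx hc (show w ∈ fx a by rw [hfa]; simp)
    rw [hfa] at hm
    simp only [Finset.mem_insert, Finset.mem_singleton] at hm
    have hsw : (t * (a * t * a⁻¹)) w = w := by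
      rcases hm with e | e | e
      · exact absurd ((t * (a * t * a⁻¹)).injective (e.trans s1.symm)) huw.symm
      · exact absurd ((t * (a * t * a⁻¹)).injective (e.trans s2.symm)) hvw.symm
      · exact e
    exact eq_inv_of_mul_eq_one_right (hfixw _ hsT hsw)
  refine Perm.ext fun p => ?_
  rw [Perm.mul_apply, Perm.mul_apply]
  rcases eq_or_ne p u with rfl | p1
  · rw [hbu, hau, hbu]
  rcases eq_or_ne p v with rfl | p2
  · rw [hbv, hav, hbv]
  obtain ⟨t, ht, rfl⟩ := htr w p huw.symm hvw.symm p1 p2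
  have hbX : b ∈ stab2 G u v := mem_stab2.2 ⟨hb.mem, hbu, hbv⟩
  have hs : b * t * b⁻¹ ∈ T := hTn b hbX t ht
  have e1 : ∀ s ∈ T, a (s w) = s⁻¹ w := by
    intro s hs
    rw [← hinv s hs, Perm.mul_apply, Perm.mul_apply, ha.inv_eq, haw]
  have e2 : ∀ s : Perm α, b (s w) = (b * s * b⁻¹) w := by
    intro s
    rw [Perm.mul_apply, Perm.mul_apply, hb.inv_eq, hbw]
  rw [e2 t, e1 _ hs, e1 t ht, e2 t⁻¹, conj_inv]

end CfsgLib.CharsMore.FourTrans
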